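import Cfsg.Agent.Fischer.Models.Double
import Cfsg.Agent.S1631
import Cfsg.Agent.Classical.Misc.Spinor
import Cfsg.Agent.S5358
import Cfsg.Agent.Known.FormEquiv
import Cfsg.Agent.S1629
import Cfsg.Agent.S1630
import Cfsg.Agent.SpTwo.Transpositions
import Cfsg.Agent.Classical.Symp.Standard

/-!
The standard classes, labelled, and the isomorphisms of the models.
-/

set_option autoImplicit false
set_option linter.unusedSectionVars false

namespace Cfsg.Lib.Fischer.Models

open Cfsg Subgroup Cfsg.Lib.ThreeTr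
open Cfsg.Lib.PrimeGraph (KQuad)

universe u v

variable {G : Type u} [Group G] [Finite G] {S : Set G}

/-- A standard class labelled like `S` has the same graph. -/
theorem graphIso_of_labels {F V : Type} [Field F] [AddCommGroup V] [Module F V] {P : V → Prop} {β : V → V → F}
    {f : G → V} (hc : Coords S P β f) {Γ : Type v} [Group Γ] {S' : Set Γ} (T : V → Γ)
    (hmem : ∀ v, P v → T v ∈ S') (hsur : ∀ s ∈ S', ∃ v, P v ∧ T v = s)
    (hsmul : ∀ v, P v → ∀ k : F, k ≠ 0 → P (k • v) → T (k • v) = T v)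
    (hinj : ∀ v w, P v → P w → T v = T w → ∃ k : F, k ≠ 0 ∧ w = k • v)
    (hcomm : ∀ v w, P v → P w → (∀ k : F, w ≠ k • v) → (Commute (T v) (T w) ↔ β v w = 0)) :
    GraphIso S S' (T ∘ f) where
  bij := by
    refine ⟨fun x hx => hmem _ (hc.mem x hx), fun x hx y hy e => ?_, fun s hs => ?_⟩
    · obtain ⟨k, -, e'⟩ := hinj _ _ (hc.mem x hx) (hc.mem y hy) e
      exact hc.inj x hx y hy k e'
    · obtain ⟨v, hv, rfl⟩ := hsur s hs
      obtain ⟨x, hx, k, hk, rfl⟩ := hc.surj v hv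
      exact ⟨x, hx, (hsmul _ (hc.mem x hx) k hk hv).symm⟩
  comm x hx y hy := by
    rcases eq_or_ne x y with rfl | hne
    · exact iff_of_true (Commute.refl _) (Commute.refl _)
    · exact (hcomm _ _ (hc.mem x hx) (hc.mem y hy) fun k e => hne (hc.inj x hx y hy k e)).trans
        (hc.comm x hx y hy hne).symm

/-- Two classes with a common member are equal. -/
theorem class_eq {Γ : Type v} [Group Γ] {A B : Set Γ} (hA : IsThreeTranspositionClass A)
    (hB : IsThreeTranspositionClass B) {x : Γ} (ha : x ∈ A) (hb : x ∈ B) : A = B := by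
  have key : ∀ {A B : Set Γ}, IsThreeTranspositionClass A → IsThreeTranspositionClass B → x ∈ A → x ∈ B →
      A ⊆ B := fun hA hB ha hb y hy => by
    obtain ⟨g, rfl⟩ := ThreeTr.exists_conj hA ha hy
    exact ThreeTr.conj_mem hB g hb
  exact (key hA hB ha hb).antisymm (key hB hA hb ha)

/-- A noncommuting condition from conjugation. -/
theorem conj_fix_of_commute {Γ : Type v} [Group Γ] {a b : Γ} (h : Commute a b) : a * b * a⁻¹ = b := by
  rw [h.eq, mul_inv_cancel_right]

/-! ### Unitary -/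

open Cfsg.Lib.Classical Cfsg.Lib.TTUnitary in
theorem graphIso_su {n : ℕ} (h : ULike S n) (h4 : 4 ≤ n) : ∃ f,
    GraphIso S {g : ↥(Cfsg.SU n KQuad 2) |
      (((g : Matrix.SpecialLinearGroup (Fin n) KQuad) : Matrix (Fin n) (Fin n) KQuad) - 1).rank = 1} f := by
  classical
  obtain ⟨f, hc⟩ := h
  have hK : Fintype.card KQuad = 2 ^ 2 := SolvablePerp.Model.hK
  set H := SolvablePerp.Model.HS n
  have hq : Four H := SolvablePerp.Model.four n
  have hd : 4 ≤ Module.finrank KQuad (Fin n → KQuad) := by rw [Module.finrank_fin_fun]; exact h4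
  set φ := suEquiv n hK
  have hiso : ∀ v : Fin n → KQuad, herm v v = 0 → H.h v v = 0 := fun v hv => (herm_eq v v).symm.trans hv
  have hcls := image_threeTranspositionClass φ
    (HermSpace.threeTransposition (H := H) hd hq.two hq.norm)
  have hD := Cfsg.Agent.S1631.result KQuad KQuad.card_eq n h4
  have hrank : ∀ v, v ≠ 0 → H.h v v = 0 → (((φ (tv hq v) : Cfsg.SU n KQuad 2) :
      Matrix.SpecialLinearGroup (Fin n) KQuad).1 - 1).rank = 1 := by
    intro v hv0 hv
    set M : Matrix (Fin n) (Fin n) KQuad := (unitToGL hK (tv hq v).1).val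
    show (M - 1).rank = 1
    have hMx : ∀ x, M.mulVec x = x + H.h x v • v := fun x =>
      (unitToGL_mulVec hK (tv hq v).1 x).trans (tv_apply hq hv x)
    have e : M - 1 = Matrix.vecMulVec v (fun i => H.h (Pi.single i 1) v) := by
      refine Matrix.toLin'.injective (LinearMap.ext fun x => ?_)
      simp only [Matrix.toLin'_apply, Matrix.sub_mulVec, Matrix.one_mulVec, Matrix.vecMulVec_mulVec, hMx,
        add_sub_cancel_left]
      have hsum : H.h x v = (fun i => H.h (Pi.single i 1) v) ⬝ᵥ x := by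
        conv_lhs => rw [pi_eq_sum_univ' x]
        rw [H.sum_left]
        exact Finset.sum_congr rfl fun i _ => by rw [H.smul_left, mul_comm]
      funext i
      simp [hsum, mul_comm]
    have hle : (M - 1).rank ≤ 1 := by rw [e]; exact Matrix.rank_vecMulVec_le _ _
    have hne : (M - 1).rank ≠ 0 := fun h0 => by
      have h1 : M = 1 := sub_eq_zero.mp (Matrix.toLin'.injective (by
        rw [map_zero, ← LinearMap.range_eq_bot]
        exact Submodule.finrank_eq_zero.mp h0))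
      obtain ⟨u, hu⟩ := H.exists_partner hv0
      have h2' := hMx u
      rw [h1, Matrix.one_mulVec, H.symm, hu, map_one, one_smul, left_eq_add] at h2'
      exact hv0 h2'
    omega
  obtain ⟨v₀, hv₀, hvv₀⟩ := H.exists_isotropic_of_two_le (by omega)
  have hmemI : ∀ v, v ≠ 0 → H.h v v = 0 → tv hq v ∈ H.oneTransv := fun v hv0 hv =>
    ⟨v, hv0, hv, tv_apply hq hv⟩
  have hset : φ '' H.oneTransv = _ :=
    class_eq hcls hD ⟨_, hmemI v₀ hv₀ hvv₀, rfl⟩ (hrank v₀ hv₀ hvv₀)
  have inj : ∀ v w, v ≠ 0 → H.h v v = 0 → w ≠ 0 → H.h w w = 0 → tv hq v = tv hq w →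
      ∃ k : KQuad, k ≠ 0 ∧ w = k • v := by
    intro v w hv0 hv hw0 hw e
    obtain ⟨u, hu⟩ := H.exists_partner hv0
    have h1 : (tv hq v).1.1 u = (tv hq w).1.1 u := by rw [e]
    rw [tv_apply hq hv, tv_apply hq hw, add_right_inj, H.symm u v, hu, map_one, one_smul] at h1
    have hk : H.h u w ≠ 0 := fun h0 => hv0 (by rw [h1, h0, zero_smul])
    exact ⟨(H.h u w)⁻¹, inv_ne_zero hk, by rw [h1, smul_smul, inv_mul_cancel₀ hk, one_smul]⟩
  refine ⟨(fun v => φ (tv hq v)) ∘ f, graphIso_of_labels hc _ (fun v hv => hrank v hv.1 (hiso v hv.2))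
    (fun s hs => ?_) (fun v hv k hk _ => congrArg φ (tv_smul hq (hiso v hv.2) hk))
    (fun v w hv hw e => inj v w hv.1 (hiso v hv.2) hw.1 (hiso w hw.2) (φ.injective e))
    fun v w hv hw hne => ?_⟩
  · rw [← hset] at hs
    obtain ⟨t, ⟨v, hv0, hv, ht⟩, rfl⟩ := hs
    exact ⟨v, ⟨hv0, (herm_eq v v).trans hv⟩, congrArg φ
      (HermSpace.apply_eq_of_mem (tv_apply hq hv) ht)⟩
  · have hv' := hiso v hv.2
    have hw' := hiso w hw.2
    have e : Commute (φ (tv hq v)) (φ (tv hq w)) ↔ Commute (tv hq v) (tv hq w) :=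
      ⟨fun c => φ.injective (by simpa using c.eq), fun c => c.map φ.toMonoidHom⟩
    rw [e, herm_eq]
    refine ⟨fun c => ?_, fun h0 => tv_commute hq hv' hw' (H.eq_zero_symm h0)⟩
    have e2 := conj_fix_of_commute c
    rw [tv_conj hq _ hw', tv_apply hq hv'] at e2
    by_contra h0
    have hwv : H.h w v ≠ 0 := fun h => h0 (H.eq_zero_symm h)
    have hw2 : w + H.h w v • v ≠ 0 := fun h => by
      refine hne (H.h w v) (hq.eq_of_vadd h)
    obtain ⟨k, hk, e3⟩ := inj _ w hw2
      (by rw [← tv_apply hq hv', H.map_form, hw']) hw.1 hw' e2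
    rcases eq_or_ne k 1 with rfl | hk1
    · rw [one_smul, left_eq_add, smul_eq_zero] at e3
      exact e3.elim hwv hv.1
    · refine hne ((1 + k)⁻¹ * (k * H.h w v)) ?_
      have h1k : (1 : KQuad) + k ≠ 0 := fun h => hk1 (hq.eq_of_add h).symm
      rw [smul_add, smul_smul] at e3
      have e4 : ((1 : KQuad) + k) • w = (k * H.h w v) • v := by
        rw [add_smul, one_smul]
        calc w + k • w = k • w + (k * H.h w v) • v + k • w := by rw [← e3]
          _ = (k * H.h w v) • v := by rw [add_comm (k • w), add_assoc, hq.vadd_self, add_zero]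
      rw [← smul_smul, ← e4, smul_smul, inv_mul_cancel₀ h1k, one_smul]

/-- The unitary model. -/
theorem u_model (h : Invols S) {n : ℕ} (hu : ULike S n) (hn : 4 ≤ n) :
    ∃ e : ↥(closure S) ⧸ center ↥(closure S) ≃* Cfsg.PSU n KQuad 2,
      e '' (QuotientGroup.mk '' {x : ↥(closure S) | (x : G) ∈ S}) =
        (QuotientGroup.mk : ↥(Cfsg.SU n KQuad 2) → Cfsg.PSU n KQuad 2) '' {g : ↥(Cfsg.SU n KQuad 2) |
          (((g : Matrix.SpecialLinearGroup (Fin n) KQuad) : Matrix (Fin n) (Fin n) KQuad) - 1).rank = 1} := by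
  classical
  obtain ⟨f, hf⟩ := graphIso_su hu hn
  have hD := Cfsg.Agent.S1631.result KQuad KQuad.card_eq n hn
  exact exists_iso_closure h (double_u hu hn) (Invols.of_class hD) hD.2.2 hf

/-! ### Reflections over three elements -/

theorem toForm_facts {n : ℕ} {B : LinearMap.BilinForm (ZMod 3) (Fin n → ZMod 3)} (hs : B.IsSymm)
    (hN : B.Nondegenerate) :
    (QuadraticMap.polarBilin (LinearMap.BilinMap.toQuadraticMap B)).Nondegenerate ∧
      ∀ x y, QuadraticMap.polar (⇑(LinearMap.BilinMap.toQuadraticMap B)) x y = 2 * B x y := by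
  have hsym : ∀ x y, B x y = B y x := fun x y => (hs.eq y x).symm
  have hpol : ∀ x y, QuadraticMap.polar (⇑(LinearMap.BilinMap.toQuadraticMap B)) x y = 2 * B x y := fun x y => by
    simp only [QuadraticMap.polar, LinearMap.BilinMap.toQuadraticMap_apply, map_add, LinearMap.add_apply, hsym y x]
    ring
  refine ⟨⟨fun x hx => hN.1 x fun y => ?_, fun x hx => hN.1 x fun y => ?_⟩, hpol⟩
  · have := hx y
    rw [QuadraticMap.polarBilin_apply_apply, hpol] at this
    exact (mul_eq_zero.1 this).resolve_left (by decide)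
  · have := hx y
    rw [QuadraticMap.polarBilin_apply_apply, hpol, hsym] at this
    exact (mul_eq_zero.1 this).resolve_left (by decide)

open Cfsg.Lib.Classical in
theorem graphIso_refl {n : ℕ} {δ : ZMod 3} (h : RLike S n δ) (h5 : 5 ≤ n) :
    ∃ Q : QuadraticForm (ZMod 3) (Fin n → ZMod 3), (QuadraticMap.polarBilin Q).Nondegenerate ∧
      polarGramDet (⇑Q) = 2 ^ n * δ ∧ ∃ f, GraphIso S {g : ↥(reflectionSubgroup (⇑Q) (1 : ZMod 3)) |
        (g : ↥(isometryGroup (ZMod 3) (⇑Q))) ∈ reflectionsOfNorm (⇑Q) (1 : ZMod 3)} f := by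
  classical
  obtain ⟨B, hs, hN, hdet, f, hc⟩ := h
  obtain ⟨hQ, hpol⟩ := toForm_facts hs hN
  set Q := LinearMap.BilinMap.toQuadraticMap B with hQdef
  refine ⟨Q, hQ, ?_, ?_⟩
  · rw [Cfsg.polarGramDet, ← hdet,
      show (Matrix.of fun i j : Fin n => QuadraticMap.polar (⇑Q) (Pi.single i 1) (Pi.single j 1)) =
        (2 : ZMod 3) • LinearMap.BilinForm.toMatrix' B from Matrix.ext fun i j => by
        simp [hpol, LinearMap.BilinForm.toMatrix'_apply],
      Matrix.det_smul, Fintype.card_fin]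
  have hq1 : ∀ {v}, B v v = 1 → Q v ≠ 0 := fun {v} hv => by
    show B v v ≠ 0
    rw [hv]; exact one_ne_zero
  let T : (Fin n → ZMod 3) → ↥(reflectionSubgroup (⇑Q) (1 : ZMod 3)) := fun v =>
    if hv : B v v = 1 then ⟨Refl.refl Q v (hq1 hv), subset_closure ⟨v, hv, rfl⟩⟩ else 1
  have hT : ∀ {v} (hv : B v v = 1), ((T v : ↥(reflectionSubgroup (⇑Q) (1 : ZMod 3))) :
      ↥(isometryGroup (ZMod 3) (⇑Q))) = Refl.refl Q v (hq1 hv) := fun hv => by
    show ((if _h : _ then _ else _ : ↥(reflectionSubgroup (⇑Q) (1 : ZMod 3))) : ↥(isometryGroup (ZMod 3) (⇑Q))) = _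
    rw [dif_pos hv]
  have hpm : ∀ k : ZMod 3, k ≠ 0 → k = 1 ∨ k = -1 := by decide
  refine ⟨T ∘ f, graphIso_of_labels hc T (fun v hv => ?_) (fun s hs => ?_) (fun v hv k hk hkv => ?_)
    (fun v w hv hw e => ?_) fun v w hv hw hne => ?_⟩
  · show ((T v : ↥(reflectionSubgroup (⇑Q) (1 : ZMod 3))) : ↥(isometryGroup (ZMod 3) (⇑Q))) ∈
      reflectionsOfNorm (⇑Q) (1 : ZMod 3)
    rw [hT hv]
    exact ⟨v, hv, rfl⟩
  · obtain ⟨v, hv, e⟩ := hs
    exact ⟨v, hv, Subtype.ext ((hT hv).trans (Subtype.ext (Units.ext e.symm)))⟩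
  · exact Subtype.ext (by rw [hT hkv, hT hv]; exact Refl.refl_congr Q _ _ (t := k) rfl)
  · have e1 := congrArg (fun g : ↥(reflectionSubgroup (⇑Q) (1 : ZMod 3)) =>
      (((g : ↥(isometryGroup (ZMod 3) (⇑Q))) : GL (Fin n) (ZMod 3)) : Matrix (Fin n) (Fin n) (ZMod 3)).mulVec v) e
    simp only [hT hv, hT hw, Refl.coe_refl] at e1
    rw [Refl.self Q v (hq1 hv), Refl.mulVec_eq, hpol] at e1
    set k := (Q w)⁻¹ * (2 * B w v)
    have e2 : v + v = k • w := by
      rw [eq_sub_iff_add_eq, neg_add_eq_iff_eq_add] at e1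
      exact e1.symm
    have hk : k ≠ 0 := fun h0 => hq1 hv (by
      have hv0 : v = 0 := funext fun i => by
        have := congrFun e2 i
        rw [h0, zero_smul] at this
        exact (by decide : ∀ z : ZMod 3, z + z = 0 → z = 0) _ this
      rw [hv0, map_zero])
    refine ⟨-k⁻¹, neg_ne_zero.2 (inv_ne_zero hk), ?_⟩
    have e3 : w = k⁻¹ • (v + v) := by rw [e2, smul_smul, inv_mul_cancel₀ hk, one_smul]
    rw [e3, show v + v = -v from funext fun i => (by decide : ∀ z : ZMod 3, z + z = -z) _, smul_neg, neg_smul]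
  · have h1 : w ≠ v := fun e => hne 1 (by rw [one_smul, e])
    have h2 : w ≠ -v := fun e => hne (-1) (by rw [e, neg_one_smul])
    have key := Cfsg.Agent.S5358.result n Q hQ v w (hq1 hv) (hv.trans hw.symm) h1 h2
    rw [hpol, mul_eq_zero, or_iff_right (by decide : (2 : ZMod 3) ≠ 0)] at key
    rw [← key]
    refine ⟨fun c => ?_, fun c => Subtype.ext (Subtype.ext (Units.ext ?_))⟩
    · have := congrArg (fun g : ↥(reflectionSubgroup (⇑Q) (1 : ZMod 3)) =>
        (((g : ↥(isometryGroup (ZMod 3) (⇑Q))) : GL (Fin n) (ZMod 3)) : Matrix (Fin n) (Fin n) (ZMod 3))) c.eq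
      simpa [hT hv, hT hw, Refl.coe_refl, commute_iff_eq] using this
    · simpa [hT hv, hT hw, Refl.coe_refl] using c.eq

/-- The model of reflections. -/
theorem r_model (h : Invols S) {n : ℕ} {δ : ZMod 3} (hr : RLike S n δ) (hn : 6 ≤ n) :
    ∃ Q : QuadraticForm (ZMod 3) (Fin n → ZMod 3), (QuadraticMap.polarBilin Q).Nondegenerate ∧
      polarGramDet (⇑Q) = 2 ^ n * δ ∧
      ∃ e : ↥(closure S) ⧸ center ↥(closure S) ≃*
          ↥(reflectionSubgroup (⇑Q) (1 : ZMod 3)) ⧸ center ↥(reflectionSubgroup (⇑Q) (1 : ZMod 3)),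
        e '' (QuotientGroup.mk '' {x : ↥(closure S) | (x : G) ∈ S}) =
          (QuotientGroup.mk : ↥(reflectionSubgroup (⇑Q) (1 : ZMod 3)) → _) ''
            {g : ↥(reflectionSubgroup (⇑Q) (1 : ZMod 3)) |
              (g : ↥(isometryGroup (ZMod 3) (⇑Q))) ∈ reflectionsOfNorm (⇑Q) (1 : ZMod 3)} := by
  obtain ⟨Q, hQ, hd, f, hf⟩ := graphIso_refl hr (by omega)
  have hD := Cfsg.Agent.S5357.result n (by omega) Q hQ 1 one_ne_zero
  exact ⟨Q, hQ, hd, exists_iso_closure h (double_r hr hn) (Invols.of_class hD) hD.2.2 hf⟩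

/-! ### Degree `n` -/

theorem graphIso_perm {n : ℕ} (h : SymLike S n) :
    ∃ f, GraphIso S {σ : Equiv.Perm (Fin n) | σ.IsSwap} f := by
  classical
  obtain ⟨f, hf, hc⟩ := h
  have hp : ∀ x, ∃ σ : Equiv.Perm (Fin n), x ∈ S → σ.IsSwap ∧ σ.support = f x := fun x => by
    by_cases hx : x ∈ S
    · obtain ⟨a, b, hab, e⟩ := Finset.card_eq_two.1 (hf.mapsTo hx : (f x).card = 2)
      exact ⟨Equiv.swap a b, fun _ => ⟨⟨a, b, hab, rfl⟩, by rw [Equiv.Perm.support_swap hab, e]⟩⟩
    · exact ⟨1, fun h => absurd h hx⟩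
  choose g hg using hp
  have hswap : ∀ σ τ : Equiv.Perm (Fin n), σ.IsSwap → τ.IsSwap → σ.support = τ.support → σ = τ := by
    rintro σ τ ⟨a, b, hab, rfl⟩ ⟨c, d, hcd, rfl⟩ e
    rw [Equiv.Perm.support_swap hab, Equiv.Perm.support_swap hcd] at e
    have ha : a = c ∨ a = d := by
      have : a ∈ ({c, d} : Finset (Fin n)) := e ▸ Finset.mem_insert_self a _
      simpa using this
    have hb : b = c ∨ b = d := by
      have : b ∈ ({c, d} : Finset (Fin n)) := e ▸ Finset.mem_insert_of_mem (Finset.mem_singleton_self b)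
      simpa using this
    rcases ha with rfl | rfl <;> rcases hb with rfl | rfl
    exacts [absurd rfl hab, rfl, Equiv.swap_comm _ _, absurd rfl hab]
  refine ⟨g, ⟨fun x hx => (hg x hx).1, fun x hx y hy e => hf.injOn hx hy (by
    rw [← (hg x hx).2, ← (hg y hy).2, e]), fun σ hσ => ?_⟩, fun x hx y hy => ?_⟩
  · obtain ⟨x, hx, hfx⟩ := hf.surjOn (show σ.support ∈ {s : Finset (Fin n) | s.card = 2} from
      Equiv.Perm.card_support_eq_two.2 hσ)
    exact ⟨x, hx, hswap _ _ (hg x hx).1 hσ ((hg x hx).2.trans hfx)⟩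
  · rcases eq_or_ne x y with rfl | hne
    · exact iff_of_true (Commute.refl _) (Commute.refl _)
    rw [hc x hx y hy hne, ← (hg x hx).2, ← (hg y hy).2, ← Equiv.Perm.disjoint_iff_disjoint_support]
    refine ⟨fun c => ?_, fun d => d.commute⟩
    obtain ⟨a, b, hab, ea⟩ := (hg x hx).1
    obtain ⟨p, q, hpq, eb⟩ := (hg y hy).1
    rw [Equiv.Perm.disjoint_iff_disjoint_support]
    by_contra hd
    have e := conj_fix_of_commute c
    rw [eb, ← Equiv.swap_apply_apply] at e
    have e' := congrArg Equiv.Perm.support e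
    rw [Equiv.Perm.support_swap ((g x).injective.ne hpq), Equiv.Perm.support_swap hpq] at e'
    have hne' : (g x).support ≠ (g y).support := fun e2 => hne (hf.injOn hx hy (by
      rw [← (hg x hx).2, ← (hg y hy).2, e2]))
    rw [ea, eb, Equiv.Perm.support_swap hab, Equiv.Perm.support_swap hpq] at hd hne'
    rw [ea] at e'
    simp only [Finset.disjoint_insert_left, Finset.disjoint_singleton_left, Finset.mem_insert,
      Finset.mem_singleton, not_and_or, not_not, not_or] at hd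
    have m1 : p ∈ ({Equiv.swap a b p, Equiv.swap a b q} : Finset (Fin n)) := e'.symm ▸ Finset.mem_insert_self p _
    have m2 : q ∈ ({Equiv.swap a b p, Equiv.swap a b q} : Finset (Fin n)) :=
      e'.symm ▸ Finset.mem_insert_of_mem (Finset.mem_singleton_self q)
    simp only [Finset.mem_insert, Finset.mem_singleton] at m1 m2
    apply hne'
    rcases hd with (rfl | rfl) | (rfl | rfl) <;>
      simp only [Equiv.swap_apply_left, Equiv.swap_apply_right] at m1 m2 <;>
      (try (by_cases h1 : q = a <;> by_cases h2 : q = b <;> simp_all [Equiv.swap_apply_of_ne_of_ne, Finset.pair_comm])) <;>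
      (try (by_cases h1 : p = a <;> by_cases h2 : p = b <;> simp_all [Equiv.swap_apply_of_ne_of_ne, Finset.pair_comm])) <;>
      (try (rcases m2 with h | h <;> exact absurd h.symm (by assumption))) <;>
      (try (rcases m1 with h | h <;> exact absurd h.symm (by assumption)))

theorem center_perm {n : ℕ} (h : 3 ≤ n) : center (Equiv.Perm (Fin n)) = ⊥ := by
  rw [eq_bot_iff]
  intro σ hσ
  refine mem_bot.2 (Equiv.ext fun a => ?_)
  by_contra hne
  change σ a ≠ a at hne
  obtain ⟨c, hc⟩ := Finset.card_pos.1 (show 0 < ({a, σ a} : Finset (Fin n))ᶜ.card by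
    rw [Finset.card_compl, Fintype.card_fin]
    have := Finset.card_le_two (a := a) (b := σ a)
    omega)
  simp only [Finset.mem_compl, Finset.mem_insert, Finset.mem_singleton, not_or] at hc
  have e := congrArg (fun p : Equiv.Perm (Fin n) => p a) (mem_center_iff.1 hσ (Equiv.swap a c))
  simp only [Equiv.Perm.mul_apply, Equiv.swap_apply_left] at e
  rw [Equiv.swap_apply_of_ne_of_ne hne (Ne.symm hc.2)] at e
  exact hc.1 (σ.injective e).symm

theorem invols_swaps (n : ℕ) : Invols {σ : Equiv.Perm (Fin n) | σ.IsSwap} := by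
  refine ⟨?_, ?_⟩
  · rintro σ ⟨a, b, -, rfl⟩
    exact Equiv.swap_mul_self a b
  · rintro σ ⟨a, b, -, rfl⟩ τ ⟨c, d, hcd, rfl⟩
    refine ⟨Equiv.swap a b c, Equiv.swap a b d, (Equiv.injective _).ne hcd, ?_⟩
    rw [Equiv.swap_apply_apply, Equiv.swap_inv]

theorem sym_model {D : Set G} (h : Invols D) (hgen : closure D = ⊤) (hZ : center G = ⊥) {n : ℕ}
    (hs : SymLike D n) (h5 : 5 ≤ n) :
    ∃ e : G ≃* Equiv.Perm (Fin n), e '' D = {σ : Equiv.Perm (Fin n) | σ.IsSwap} := by
  obtain ⟨f, hf⟩ := graphIso_perm hs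
  exact exists_iso_bot h (double_sym hs h5) hgen hZ (invols_swaps n) Equiv.Perm.closure_isSwap
    (center_perm (by omega)) hf

/-! ### Symplectic -/

theorem sp_model {D : Set G} (h : Invols D) (hgen : closure D = ⊤) (hZ : center G = ⊥) {n : ℕ}
    (hs : SpLike D n) (h1 : 1 ≤ n) :
    ∃ m : ℕ, ∃ e : G ≃* Matrix.symplecticGroup (Fin m) (ZMod 2), e '' D =
      {g : Matrix.symplecticGroup (Fin m) (ZMod 2) |
        ((g : Matrix (Fin m ⊕ Fin m) (Fin m ⊕ Fin m) (ZMod 2)) - 1).rank = 1} := by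
  classical
  have hdd := double_sp hs
  obtain ⟨B, hA, hN, f, hc⟩ := hs
  obtain ⟨m, b, hdim, -⟩ := Cfsg.Lib.Classical.exists_symplectic_basis_nondegenerate hA hN
  rw [Module.finrank_fin_fun] at hdim
  obtain ⟨g, hg⟩ := Cfsg.Lib.Classical.exists_isometry_sympBilin hA hN (m := m)
    (by rw [Module.finrank_fin_fun]; omega)
  open Cfsg.Lib.SpTwo Cfsg.Lib.RootSub in
  have hcls := three_transposition (n := m) (by omega)
  open Cfsg.Lib.SpTwo Cfsg.Lib.RootSub in
  have hfix : ∀ (x : ↥(Matrix.symplecticGroup (Fin m) (ZMod 2))) (v : Fin m ⊕ Fin m → ZMod 2), v ≠ 0 →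
      x * tv v * x⁻¹ = tv v → (spCoe m _ x).mulVec v = v := by
    intro x v hv e
    rw [tv_conj] at e
    obtain ⟨z, hz⟩ : ∃ z, ((Matrix.J (Fin m) (ZMod 2)).mulVec v) ⬝ᵥ z ≠ 0 := by
      by_contra! hall
      exact J_mulVec_ne_zero hv (dotProduct_eq_zero _ hall)
    have e1 := congrArg (fun y => (spCoe m _ y).mulVec z) e
    simp only [tv_apply, add_right_inj] at e1
    rw [two_eq_one hz, one_smul] at e1
    rcases Two.bit (((Matrix.J (Fin m) (ZMod 2)).mulVec ((spCoe m _ x).mulVec v)) ⬝ᵥ z) with h0 | h0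
    · rw [h0, zero_smul] at e1; exact absurd e1.symm hv
    · rw [h0, one_smul] at e1; exact e1
  open Cfsg.Lib.SpTwo Cfsg.Lib.RootSub in
  have hbeta : ∀ v w, ((Matrix.J (Fin m) (ZMod 2)).mulVec v) ⬝ᵥ w =
      Cfsg.Lib.Classical.sympBilin m (ZMod 2) w v := fun v w => by
    rw [Cfsg.Lib.Classical.sympBilin_apply, dotProduct_comm]
  open Cfsg.Lib.SpTwo Cfsg.Lib.RootSub in
  have hiso : GraphIso D {x : ↥(Matrix.symplecticGroup (Fin m) (ZMod 2)) |
      ((x : Matrix (Fin m ⊕ Fin m) (Fin m ⊕ Fin m) (ZMod 2)) - 1).rank = 1} ((fun v => tv (g v)) ∘ f) := by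
    refine graphIso_of_labels hc _ (fun v hv => (rank_iff _).2 ⟨_, fun e => hv (g.map_eq_zero_iff.1 e), rfl⟩)
      (fun s hs => ?_) (fun v hv k hk _ => by rw [show k = 1 from Two.ne_zero_iff.1 hk, one_smul])
      (fun v w hv hw e => ⟨1, one_ne_zero, ?_⟩) fun v w hv hw hne => ?_
    · obtain ⟨v, hv, rfl⟩ := (rank_iff _).1 hs
      exact ⟨g.symm v, fun e => hv (g.symm.map_eq_zero_iff.1 e), by simp⟩
    · have hv0 : g v ≠ 0 := fun e' => hv (g.map_eq_zero_iff.1 e')
      obtain ⟨z, hz⟩ : ∃ z, ((Matrix.J (Fin m) (ZMod 2)).mulVec (g v)) ⬝ᵥ z ≠ 0 := by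
        by_contra! hall
        exact J_mulVec_ne_zero hv0 (dotProduct_eq_zero _ hall)
      have e1 := congrArg (fun y => (spCoe m _ y).mulVec z) e
      simp only [tv_apply, add_right_inj] at e1
      rw [two_eq_one hz, one_smul] at e1
      rw [one_smul]
      rcases Two.bit (((Matrix.J (Fin m) (ZMod 2)).mulVec (g w)) ⬝ᵥ z) with h0 | h0
      · rw [h0, zero_smul] at e1; exact absurd e1 hv0
      · rw [h0, one_smul] at e1; exact (g.injective e1).symm
    · have hw0 : g w ≠ 0 := fun e => hw (g.map_eq_zero_iff.1 e)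
      have hv0 : g v ≠ 0 := fun e => hv (g.map_eq_zero_iff.1 e)
      rw [show B v w = 0 ↔ ((Matrix.J (Fin m) (ZMod 2)).mulVec (g v)) ⬝ᵥ g w = 0 by
        rw [hbeta, hg, Two.alt_symm hA v w]]
      refine ⟨fun c => ?_, fun h0 => spCoe_injective m ?_⟩
      · have := hfix _ _ hw0 (conj_fix_of_commute c)
        rw [tv_apply, add_eq_left, smul_eq_zero] at this
        exact this.resolve_right hv0
      · rw [map_mul, map_mul, tv_coe, tv_coe]
        exact tmat_comm h0 (by rw [dot_comm, h0]) 1 1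
  refine ⟨m, exists_iso_bot h hdd hgen hZ (Invols.of_class hcls) hcls.2.2 ?_ hiso⟩
  rw [eq_bot_iff]
  intro x hx
  open Cfsg.Lib.SpTwo Cfsg.Lib.RootSub in
  refine mem_bot.2 (spCoe_injective m (Matrix.toLin'.injective (LinearMap.ext fun v => ?_)))
  open Cfsg.Lib.SpTwo Cfsg.Lib.RootSub in
  rcases eq_or_ne v 0 with rfl | hv
  · simp
  open Cfsg.Lib.SpTwo Cfsg.Lib.RootSub in
  rw [map_one, Matrix.toLin'_apply, Matrix.toLin'_apply, Matrix.one_mulVec,
    hfix x v hv (by rw [← mem_center_iff.1 hx, mul_inv_cancel_right])]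

/-! ### Orthogonal over two elements -/

open Cfsg.Lib.Classical in
theorem orth_iso {D : Set G} (h : Invols D) (hdd : Double D) (hgen : closure D = ⊤) (hZ : center G = ⊥)
    {ι : Type} [Fintype ι] [DecidableEq ι] (Q : QuadraticForm (ZMod 2) (ι → ZMod 2))
    (hN : (QuadraticMap.polarBilin Q).Nondegenerate) (h5 : 5 ≤ Fintype.card ι) {f : G → ι → ZMod 2}
    (hc : Coords D (fun v => Q v = 1) (QuadraticMap.polar Q) f) :
    ∃ e : G ≃* ↥(isometryGroup (ZMod 2) (⇑Q)), e '' D = {g | (Refl.mat Q g - 1).rank = 1} := by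
  classical
  set B := QuadraticMap.polarBilin Q
  have hA : B.IsAlt := fun v => by
    show QuadraticMap.polar Q v v = 0
    rw [QuadraticMap.polar_self, two_smul]; exact CharTwo.add_self_eq_zero _
  have hcls := Refl.three_transposition Q hN h5
  have hq1 : ∀ {v}, Q v = 1 → Q v ≠ 0 := fun {v} hv => by rw [hv]; exact one_ne_zero
  let T : (ι → ZMod 2) → ↥(isometryGroup (ZMod 2) (⇑Q)) := fun v =>
    if hv : Q v ≠ 0 then Refl.refl Q v hv else 1
  have hT : ∀ {v} (hv : Q v ≠ 0), T v = Refl.refl Q v hv := fun hv => dif_pos hv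
  have hinj : ∀ {v w} (hv : Q v ≠ 0) (hw : Q w ≠ 0), Refl.refl Q v hv = Refl.refl Q w hw → v = w := by
    intro v w hv hw e
    obtain ⟨z, hz⟩ := Two.exists_one hN (v := v) fun e' => hv (by rw [e', map_zero])
    have e1 := congrArg (fun g => (Refl.mat Q g).mulVec z) e
    simp only [Refl.refl_two_apply, add_right_inj] at e1
    change B v z • v = B w z • w at e1
    rw [hz, one_smul] at e1
    rcases Two.bit (B w z) with h0 | h0
    · rw [h0, zero_smul] at e1; exact absurd (by rw [e1, map_zero]) hv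
    · rwa [h0, one_smul] at e1
  have hmem : ∀ v, Q v = 1 → T v ∈ {g | (Refl.mat Q g - 1).rank = 1} := by
    have hsub : ∀ {A : Set ↥(isometryGroup (ZMod 2) (⇑Q))}, IsThreeTranspositionClass A →
        ∀ v (hv : Q v ≠ 0), (Refl.mat Q (Refl.refl Q v hv) - 1).rank = 1 := fun _ v hv => by
      have e : Refl.mat Q (Refl.refl Q v hv) - 1 = Matrix.vecMulVec v (-((Q v)⁻¹ • Cfsg.polarVec (⇑Q) v)) := by
        change Cfsg.reflectionMatrix (⇑Q) v - 1 = _
        rw [Cfsg.reflectionMatrix, sub_sub_cancel_left, Matrix.vecMulVec_neg, Matrix.vecMulVec_smul]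
      refine le_antisymm (by rw [e]; exact Matrix.rank_vecMulVec_le _ _) (Nat.one_le_iff_ne_zero.2 fun h0 => ?_)
      have h1 : Refl.mat Q (Refl.refl Q v hv) = 1 := sub_eq_zero.mp (Matrix.toLin'.injective (by
        rw [map_zero, ← LinearMap.range_eq_bot]
        exact Submodule.finrank_eq_zero.mp h0))
      have hv0 : v ≠ 0 := fun e' => hv (by rw [e', map_zero])
      obtain ⟨z, hz⟩ := Two.exists_one hN hv0
      have h2 := Refl.refl_two_apply Q v hv z
      rw [h1, Matrix.one_mulVec, left_eq_add, smul_eq_zero] at h2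
      exact h2.elim (fun h3 => one_ne_zero (hz.symm.trans h3)) hv0
    intro v hv
    show (Refl.mat Q (T v) - 1).rank = 1
    rw [hT (hq1 hv)]
    exact hsub hcls v (hq1 hv)
  have hfix : ∀ (x : ↥(isometryGroup (ZMod 2) (⇑Q))) v (hv : Q v ≠ 0),
      x * Refl.refl Q v hv * x⁻¹ = Refl.refl Q v hv → (Refl.mat Q x).mulVec v = v := fun x v hv e => by
    rw [Refl.refl_conj] at e
    exact hinj _ _ e
  obtain ⟨d₀, hd₀⟩ : D.Nonempty := by
    by_contra hne
    rw [Set.not_nonempty_iff_eq_empty] at hne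
    obtain ⟨s, hs, -⟩ := hcls.2.1
    have hspan : ∀ v : ι → ZMod 2, Q v ≠ 1 := fun v hv => by
      obtain ⟨x, hx, -⟩ := hc.surj v hv
      rw [hne] at hx
      exact hx
    have h10 : (fun _ : ι => (1 : ZMod 2)) = 0 := hN.1 _ fun y => by
      show QuadraticMap.polar (⇑Q) _ y = 0
      have hz : ∀ v, Q v = 0 := fun v => (Two.bit _).resolve_right (hspan v)
      simp [QuadraticMap.polar, hz]
    haveI : Nonempty ι := Fintype.card_pos_iff.1 (by omega)
    exact one_ne_zero (congrFun h10 (Classical.arbitrary ι))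
  have hiso : GraphIso D {g | (Refl.mat Q g - 1).rank = 1} (T ∘ f) := by
    refine graphIso_of_labels hc T hmem (fun s hs => ?_)
      (fun v hv k hk _ => by rw [show k = 1 from Two.ne_zero_iff.1 hk, one_smul])
      (fun v w hv hw e => ⟨1, one_ne_zero, ?_⟩) fun v w hv hw hne => ?_
    · obtain ⟨g, rfl⟩ := ThreeTr.exists_conj hcls (hmem _ (hc.mem d₀ hd₀)) hs
      refine ⟨(Refl.mat Q g).mulVec (f d₀), ((Refl.mem_iff Q).1 g.2 _).trans (hc.mem d₀ hd₀), ?_⟩
      rw [hT (hq1 (((Refl.mem_iff Q).1 g.2 _).trans (hc.mem d₀ hd₀))), hT (hq1 (hc.mem d₀ hd₀)), Refl.refl_conj]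
    · rw [one_smul]
      rw [hT (hq1 hv), hT (hq1 hw)] at e
      exact (hinj _ _ e).symm
    · rw [hT (hq1 hv), hT (hq1 hw)]
      refine ⟨fun c => ?_, fun h0 => ?_⟩
      · have := hfix _ w (hq1 hw) (conj_fix_of_commute c)
        rw [Refl.refl_two_apply, add_eq_left, smul_eq_zero] at this
        exact this.resolve_right fun e' => hq1 hv (by rw [e', map_zero])
      · show Refl.refl Q v _ * Refl.refl Q w _ = Refl.refl Q w _ * Refl.refl Q v _
        rw [← mul_inv_eq_iff_eq_mul, Refl.refl_conj]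
        exact Refl.refl_congr Q _ _ (t := 1) (by rw [Refl.refl_two_apply, h0, zero_smul, add_zero, one_smul])
  refine exists_iso_bot h hdd hgen hZ (Invols.of_class hcls) hcls.2.2 ?_ hiso
  rw [eq_bot_iff]
  intro x hx
  have hfx : ∀ v, Q v = 1 → (Refl.mat Q x).mulVec v = v := fun v hv =>
    hfix x v (hq1 hv) (by rw [← mem_center_iff.1 hx, mul_inv_cancel_right])
  have hpolx : ∀ y v, B ((Refl.mat Q x).mulVec y) ((Refl.mat Q x).mulVec v) = B y v := fun y v => by
    show QuadraticMap.polar (⇑Q) _ _ = QuadraticMap.polar (⇑Q) _ _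
    simp only [QuadraticMap.polar, ← Matrix.mulVec_add]
    rw [(Refl.mem_iff Q).1 x.2, (Refl.mem_iff Q).1 x.2, (Refl.mem_iff Q).1 x.2]
  refine mem_bot.2 (Refl.ext_mulVec Q fun y => ?_)
  show (Refl.mat Q x).mulVec y = (Refl.mat Q 1).mulVec y
  rw [show Refl.mat Q 1 = 1 from rfl, Matrix.one_mulVec]
  by_contra hne
  set z := (Refl.mat Q x).mulVec y + y
  have hz : z ≠ 0 := fun e => hne ((Two.eq_iff_add _ _).2 e)
  have hzv : ∀ v, Q v = 1 → B z v = 0 := fun v hv => by
    show B ((Refl.mat Q x).mulVec y + y) v = 0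
    rw [map_add, LinearMap.add_apply]
    conv_lhs => arg 1; rw [← hfx v hv, hpolx]
    exact CharTwo.add_self_eq_zero _
  obtain ⟨t, ht⟩ := Two.exists_one hN hz
  obtain ⟨r, hr0, hr⟩ := exists_common_zero (k := 2) ![B z, B t] (by rw [Module.finrank_pi]; omega)
  have hrz : B z r = 0 := hr 0
  have hrt : B t r = 0 := hr 1
  obtain ⟨s₀, hs₀⟩ := Two.exists_one hN hr0
  set s := s₀ + B z s₀ • t + B t s₀ • z
  have hsz : B z s = 0 := by simp [s, ht, Two.form_self hA, CharTwo.add_self_eq_zero]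
  have hst : B t s = 0 := by
    simp [s, Two.form_self hA, Two.alt_symm hA t z, ht, CharTwo.add_self_eq_zero]
  have hrs : B r s = 1 := by simp [s, hs₀, Two.alt_symm hA r z, Two.alt_symm hA r t, hrz, hrt]
  have hQ : ∀ v w, Q (v + w) = Q v + Q w + B v w := fun v w => QuadraticMap.map_add (f := Q) v w
  obtain ⟨q, hqz, hqt, hq⟩ : ∃ q, B z q = 0 ∧ B t q = 0 ∧ Q q = 1 := by
    rcases Two.bit (Q r) with e1 | e1
    · rcases Two.bit (Q s) with e2 | e2
      · exact ⟨r + s, by simp [hrz, hsz], by simp [hrt, hst], by rw [hQ, e1, e2, hrs]; rfl⟩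
      · exact ⟨s, hsz, hst, e2⟩
    · exact ⟨r, hrz, hrt, e1⟩
  rcases Two.bit (Q t) with e | e
  · have := hzv (t + q) (by rw [hQ, e, hq, hqt]; rfl)
    rw [map_add, ht, hqz, add_zero] at this
    exact one_ne_zero this
  · exact one_ne_zero (ht.symm.trans (hzv t e))

theorem coords_transport {V W : Type} [AddCommGroup V] [Module (ZMod 2) V] [AddCommGroup W] [Module (ZMod 2) W]
    {Q : V → ZMod 2} {Q' : W → ZMod 2} {f : G → V} (g : V ≃ₗ[ZMod 2] W) (hg : ∀ v, Q v = Q' (g v))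
    (hc : Coords S (fun v => Q v = 1) (QuadraticMap.polar Q) f) :
    Coords S (fun w => Q' w = 1) (QuadraticMap.polar Q') (g ∘ f) where
  mem x hx := (hg _).symm.trans (hc.mem x hx)
  surj w hw := by
    obtain ⟨x, hx, a, ha, e⟩ := hc.surj (g.symm w) (by rw [hg, g.apply_symm_apply]; exact hw)
    exact ⟨x, hx, a, ha, by rw [Function.comp_apply, ← map_smul, ← e, g.apply_symm_apply]⟩
  inj x hx y hy a e := hc.inj x hx y hy a (g.injective (e.trans (map_smul g a _).symm))
  comm x hx y hy hne := by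
    refine (hc.comm x hx y hy hne).trans ?_
    simp only [QuadraticMap.polar, hg, map_add, Function.comp_apply]

theorem o_model {D : Set G} (h : Invols D) (hgen : closure D = ⊤) (hZ : center G = ⊥) {n : ℕ}
    (ho : OLike D n) (h6 : 6 ≤ n) :
    (∃ m : ℕ, 3 ≤ m ∧ ∃ e : G ≃* ↥(Cfsg.isometryGroup (ZMod 2) (Cfsg.quadFormPlus m (ZMod 2))), e '' D =
      {g : ↥(Cfsg.isometryGroup (ZMod 2) (Cfsg.quadFormPlus m (ZMod 2))) | (((g : GL (Fin m ⊕ Fin m) (ZMod 2)) :
        Matrix (Fin m ⊕ Fin m) (Fin m ⊕ Fin m) (ZMod 2)) - 1).rank = 1}) ∨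
    (∃ m : ℕ, 2 ≤ m ∧ ∃ e : G ≃* ↥(Cfsg.isometryGroup (ZMod 2) (Cfsg.quadFormMinus m (ZMod 2) 1 1)), e '' D =
      {g : ↥(Cfsg.isometryGroup (ZMod 2) (Cfsg.quadFormMinus m (ZMod 2) 1 1)) |
        (((g : GL ((Fin m ⊕ Fin m) ⊕ Fin 2) (ZMod 2)) :
          Matrix ((Fin m ⊕ Fin m) ⊕ Fin 2) ((Fin m ⊕ Fin m) ⊕ Fin 2) (ZMod 2)) - 1).rank = 1}) := by
  classical
  have hdd := double_o ho (by omega)
  obtain ⟨Q, hN, f, hc⟩ := ho
  obtain ⟨m, b, hdim, -⟩ := Cfsg.Lib.Classical.exists_symplectic_basis_nondegenerate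
    (B := QuadraticMap.polarBilin Q) (fun v => by
      show QuadraticMap.polar Q v v = 0
      rw [QuadraticMap.polar_self, two_smul]; exact CharTwo.add_self_eq_zero _) hN
  rw [Module.finrank_fin_fun] at hdim
  rcases Cfsg.Lib.FormNormal.even_basis (m := m) Q (by rw [Module.finrank_fin_fun]; omega) hN with
    ⟨D₀, hD₀⟩ | ⟨D₀, hD₀, hK⟩
  · left
    have hd := D₀.dim
    rw [finrank_top, Module.finrank_fin_fun] at hd
    obtain ⟨g, hg⟩ := Cfsg.Lib.FormNormal.plus_equiv D₀ hD₀ (by omega)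
    refine ⟨m, by omega, ?_⟩
    rw [show Cfsg.quadFormPlus m (ZMod 2) = ⇑(Cfsg.Lib.Classical.HypQuad.plusForm m (ZMod 2)) from
      (funext (Cfsg.Lib.Classical.HypQuad.plusForm_apply m)).symm]
    have hg' : ∀ v, Q v = Cfsg.Lib.Classical.HypQuad.plusForm m (ZMod 2) (g v) := fun v => by
      rw [hg, Cfsg.Lib.Classical.HypQuad.plusForm_apply]
    exact orth_iso h hdd hgen hZ _ (Cfsg.Lib.Classical.HypQuad.plusForm_nondegenerate m) (by simp; omega)
      (coords_transport g hg' hc)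
  · right
    have hd := D₀.dim
    rw [finrank_top, Module.finrank_fin_fun, hK] at hd
    obtain ⟨g, hg⟩ := Cfsg.Lib.FormNormal.minus_equiv D₀ (k := m - 1) (by omega) hK
      (ζ := (1 : ZMod 2)) (by decide)
    refine ⟨m - 1, by omega, ?_⟩
    rw [show Cfsg.quadFormMinus (m - 1) (ZMod 2) 1 1 =
      ⇑(Cfsg.Lib.Classical.Refl.minusForm (m - 1) (ZMod 2) 1 1) from
      (Cfsg.Lib.Classical.Refl.minusForm_coe _ _ _).symm]
    have hg' : ∀ v, Q v = Cfsg.Lib.Classical.Refl.minusForm (m - 1) (ZMod 2) 1 1 (g v) := fun v => by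
      rw [hg, Cfsg.Lib.Classical.Refl.minusForm_coe]
    exact orth_iso h hdd hgen hZ _
      (Cfsg.Lib.Classical.Refl.minusForm_nondegenerate' (m - 1) (by decide)) (by simp; omega)
      (coords_transport g hg' hc)

end Cfsg.Lib.Fischer.Models
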