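import Cfsg.Agent.Fischer.Models.TypesBase
import Cfsg.Agent.Fischer.Models.Targets
import Cfsg.Agent.Fischer.Models.TriLike.OmegaPlus
import Cfsg.Agent.Fischer.Models.TriLike.Quotient

/-!
The sporadic kinds of graphs give the predicates of type M(22), M(23), M(24).
-/

set_option autoImplicit false
set_option linter.unusedSectionVars false

namespace Cfsg.Lib.Fischer.Models

open Cfsg Subgroup Cfsg.Lib.ThreeTr
open Cfsg.Lib.PrimeGraph (KQuad)

universe u

variable {G : Type u} [Group G] [Finite G] {D : Set G}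

theorem two_pow_six : (2 : ZMod 3) ^ 6 * 1 = 1 := by decide

theorem two_pow_seven : (2 : ZMod 3) ^ 7 * 1 = -1 := by decide

theorem two_pow_eight : (2 : ZMod 3) ^ 8 * 1 = 1 := by decide

theorem m22_of_invols (h : Invols D) (hZ : center G = ⊥) (hm : M22Like D) : Cfsg.IsOfTypeM22 G D := by
  obtain ⟨d, hd, c, hc, hn, hu, hr⟩ := hm
  obtain ⟨e, -⟩ := u_model (invols_perp h d) hu (by norm_num)
  obtain ⟨Q, hQ, hdet, e', -⟩ := r_model (invols_common h d c) hr le_rfl
  exact ⟨hZ, d, hd, c, hc, hn, ⟨KQuad, inferInstance, inferInstance, KQuad.card_eq, ⟨e⟩⟩,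
    1, one_ne_zero, Q, hQ, hdet.trans two_pow_six, ⟨e'⟩⟩

theorem m23_of_invols (h : Invols D) (hZ : center G = ⊥) {d c : G} (hd : d ∈ D) (hc : c ∈ D)
    (hn : ¬ Commute d c) (hm : M22Like (perp D d)) (hr : RLike (common D d c) 7 1) (hv : TwinFree (perp D d)) :
    Cfsg.IsOfTypeM23 G D := by
  obtain ⟨hI, hZ', f, hf⟩ := quot (invols_perp h d) hv
  obtain ⟨Q, hQ, hdet, e', -⟩ := r_model (invols_common h d c) hr (by norm_num)
  exact ⟨hZ, d, hd, c, hc, hn, m22_of_invols hI hZ' (hf.m22Like hm), 1, one_ne_zero, Q, hQ,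
    hdet.trans two_pow_seven, ⟨e'⟩⟩

theorem isOfTypeM22 (hS : Setting D) (h : M22Like D) : Cfsg.IsOfTypeM22 G D :=
  m22_of_invols (Invols.of_class hS.rich.cls) hS.cen h

theorem isOfTypeM23 (hS : Setting D) (h : M23Like D) : Cfsg.IsOfTypeM23 G D := by
  obtain ⟨d, hd, c, hc, hn, hm, hr⟩ := h
  exact m23_of_invols (Invols.of_class hS.rich.cls) hS.cen hd hc hn hm hr (hS.perpPrim d hd).vfree

theorem pairsModel_of_rLike {Γ : Type u} [Group Γ] [Finite Γ] {S : Set Γ} (h : Invols S) (hr : RLike S 8 1) :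
    PairsModel S := by
  obtain ⟨Q, hQ, hdet, e, -⟩ := r_model h hr (by norm_num)
  obtain ⟨i⟩ := commutator_reflection hQ (hdet.trans two_pow_eight)
  obtain ⟨j⟩ := Cfsg.Lib.OrthSylowTwo.omega_equiv e
  exact ⟨j.trans i⟩

theorem triLike_structure {T : Set G} (hT : IsThreeTranspositionSet T)
    (hcl : ∀ x ∈ T, ∀ y ∈ T, x * y * x ∈ T) (h : TriLike T) :
    ∃ (N : Subgroup (↥(closure T) ⧸ center ↥(closure T))) (_ : N.Normal),
      Nonempty (↥N ≃* Cfsg.POmega (ZMod 3) (Cfsg.quadFormPlus 4 (ZMod 3))) ∧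
        Nonempty ((↥(closure T) ⧸ center ↥(closure T)) ⧸ N ≃* Equiv.Perm (Fin 3)) := by
  obtain ⟨P, hP, hR, hn⟩ := h
  let P' : Fin 3 → Set ↥(closure T) := fun i => {x | (x : G) ∈ P i}
  have hPT : ∀ i, P i ⊆ T := fun i => hP ▸ Set.subset_iUnion P i
  have hU : (⋃ i, P' i) = {x : ↥(closure T) | (x : G) ∈ T} := by
    ext x
    simp only [Set.mem_iUnion, Set.mem_setOf_eq, P']
    rw [← Set.mem_iUnion, hP]
  have hC : ∀ {x y : ↥(closure T)}, Commute x y ↔ Commute (x : G) y := fun {x y} =>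
    ⟨fun c => congrArg Subtype.val c.eq, fun c => Subtype.ext c.eq⟩
  have hi : ∀ i, GraphIso (P' i) (P i) fun x => (x : G) := fun i =>
    ⟨⟨fun x hx => hx, fun x _ y _ e => Subtype.ext e, fun y hy => ⟨⟨y, subset_closure (hPT i hy)⟩, hy, rfl⟩⟩,
      fun x _ y _ => hC.symm⟩
  have hTrio : Trio P' := by
    refine ⟨?_, ?_, fun i => (hi i).rLike (hR i), fun i j hij x hx y hy c => hn i j hij _ hx _ hy (hC.1 c),
      hU.symm ▸ closure_closure_coe_preimage⟩
    · rw [hU]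
      refine ⟨fun x hx => (orderOf_submonoid x).symm.trans (hT.1 _ hx), fun x hx y hy => ?_⟩
      rcases hT.2 _ hx _ hy with e | e
      · exact Or.inl (Subtype.ext (by simpa using e))
      · exact Or.inr (Subtype.ext (by simpa using e))
    · rw [hU]
      exact fun x hx y hy => hcl _ hx _ hy
  refine hTrio.structure_mod_center fun i => pairsModel_of_rLike ⟨fun x hx => ?_, fun x hx y hy => ?_⟩ (hTrio.refl i)
  · exact hTrio.sq hx
  · exact hTrio.conj_same hx hy

theorem isOfTypeM24 (hS : Setting D) (h : M24Like D) : Cfsg.IsOfTypeM24 G D := by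
  obtain ⟨d, hd, c, hc, hn, hm, ht⟩ := h
  have hD := hS.rich.cls
  have P := hS.perpPrim d hd
  have hI := invols_perp (Invols.of_class hD) d
  obtain ⟨hI', hZ', f, hf⟩ := quot hI P.vfree
  obtain ⟨d', hd', c', hc', hn', hu, hr⟩ := hm
  obtain ⟨w, hw, rfl⟩ := hf.pull hd'
  obtain ⟨w', hw', rfl⟩ := hf.pull hc'
  refine ⟨hS.cen, d, hd, c, hc, hn, m23_of_invols hI' hZ' hw hw' (fun e => hn' ((hf.comm w hw w' hw').2 e))
    ((hf.perp hw).m22Like hu) ((hf.common hw hw').rLike hr)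
    (twinFree_of_iso (hf.perp hw) (twinFree_perp_of_prim P hd' hu)), ?_⟩
  exact triLike_structure ⟨fun x hx => hD.1.1 x hx.1.1, fun x hx y hy => hD.1.2 x hx.1.1 y hy.1.1⟩
    (invols_common (Invols.of_class hD) d c).closed ht

end Cfsg.Lib.Fischer.Models
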