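import Cfsg.Agent.Fischer.Models.Iso
import Cfsg.Agent.Fischer.Two
import Cfsg.Agent.S5357

/-!
For each kind of graph at most two members not commuting with the first of a noncommuting pair commute with all
common neighbours of the pair.
-/

set_option autoImplicit false
set_option linter.unusedSectionVars false

namespace Cfsg.Lib.Fischer.Models

open Cfsg Subgroup Cfsg.Lib.ThreeTr
open Cfsg.Lib.PrimeGraph (KQuad)

universe u

variable {G : Type u} [Group G] [Finite G] {S : Set G}

/-- Two candidate lines suffice. -/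
theorem Double.of_lines {F V : Type} [Field F] [AddCommGroup V] [Module F V] {P : V → Prop} {β : V → V → F}
    {f : G → V} (hc : Coords S P β f)
    (h : ∀ a ∈ S, ∀ b ∈ S, ¬ Commute a b → ∃ C : Set V, C.Finite ∧ C.ncard ≤ 2 ∧ ∀ w ∈ S, ¬ Commute w a →
      (∀ z ∈ S, Commute z a → Commute z b → Commute z w) → ∃ c ∈ C, ∃ k : F, k ≠ 0 ∧ f w = k • c) :
    Double S := by
  classical
  intro a ha b hb hab
  obtain ⟨C, hCf, hC3, hC⟩ := h a ha b hb hab
  have hC' : ∀ w ∈ {w | w ∈ S ∧ ¬ Commute w a ∧ ∀ z ∈ S, Commute z a → Commute z b → Commute z w},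
      ∃ c ∈ C, ∃ k : F, k ≠ 0 ∧ f w = k • c := fun w hw => hC w hw.1 hw.2.1 hw.2.2
  choose! g hg k hk hfk using hC'
  refine le_trans (Set.ncard_le_ncard_of_injOn g hg (fun x hx y hy e => ?_) hCf) hC3
  refine hc.inj x hx.1 y hy.1 (k y * (k x)⁻¹) ?_
  rw [hfk x hx, hfk y hy, e, smul_smul, mul_assoc, inv_mul_cancel₀ (hk x hx), mul_one]

theorem double_sym {n : ℕ} (h : SymLike S n) (h5 : 5 ≤ n) : Double S := by
  classical
  obtain ⟨f, hf, hc⟩ := h
  intro a ha b hb hab
  have hne : a ≠ b := fun e => hab (e ▸ Commute.refl a)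
  have hmeet : ¬ Disjoint (f a) (f b) := fun e => hab ((hc a ha b hb hne).2 e)
  obtain ⟨m, hma, hmb⟩ := Finset.not_disjoint_iff.1 hmeet
  have ha2 : (f a).card = 2 := hf.mapsTo ha
  have hb2 : (f b).card = 2 := hf.mapsTo hb
  set U := f a ∪ f b with hU
  have hU3 : U.card ≤ 3 := by
    have h1 := Finset.card_union_add_card_inter (f a) (f b)
    have h2 : 1 ≤ (f a ∩ f b).card := Finset.card_pos.2 ⟨m, Finset.mem_inter.2 ⟨hma, hmb⟩⟩
    rw [← hU] at h1
    omega
  refine le_trans (Set.ncard_le_ncard_of_injOn f (t := ↑((U.powersetCard 2).erase (f a))) (fun w hw => ?_)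
    (hf.injOn.mono fun w hw => hw.1) (Finset.finite_toSet _)) ?_
  · have hw2 : (f w).card = 2 := hf.mapsTo hw.1
    have hwa : w ≠ a := fun e => hw.2.1 (e ▸ Commute.refl a)
    rw [Finset.mem_coe, Finset.mem_erase, Finset.mem_powersetCard]
    refine ⟨fun e => hwa (hf.injOn hw.1 ha e), fun i hi => ?_, hw2⟩
    by_contra hiU
    obtain ⟨k, hkw, hka⟩ := Finset.not_disjoint_iff.1 fun e => hw.2.1 ((hc w hw.1 a ha hwa).2 e)
    obtain ⟨j, hj⟩ := Finset.card_pos.1 (show 0 < (U ∪ f w)ᶜ.card by
      rw [Finset.card_compl, Fintype.card_fin]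
      have h1 := Finset.card_union_add_card_inter U (f w)
      have h2 : 1 ≤ (U ∩ f w).card :=
        Finset.card_pos.2 ⟨k, Finset.mem_inter.2 ⟨Finset.mem_union_left _ hka, hkw⟩⟩
      omega)
    simp only [Finset.mem_compl, Finset.mem_union, not_or] at hj
    have hij : i ≠ j := fun e => hj.2 (e ▸ hi)
    obtain ⟨z, hz, hfz⟩ := hf.surjOn (show ({i, j} : Finset (Fin n)) ∈ {s : Finset (Fin n) | s.card = 2} from
      Finset.card_pair hij)
    have hzw : z ≠ w := fun e => hj.2 (by rw [← e, hfz]; simp)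
    have hdis : ∀ x ∈ S, f x ⊆ U → Commute z x := fun x hx hxU => by
      have hd : Disjoint (f z) (f x) := by
        rw [hfz, Finset.disjoint_insert_left, Finset.disjoint_singleton_left]
        exact ⟨fun h => hiU (hxU h), fun h => hj.1 (hxU h)⟩
      exact (hc z hz x hx fun e => hiU (hxU (e ▸ hfz ▸ Finset.mem_insert_self i _))).2 hd
    have := (hc z hz w hw.1 hzw).1
      (hw.2.2 z hz (hdis a ha Finset.subset_union_left) (hdis b hb Finset.subset_union_right))
    rw [hfz] at this
    exact Finset.disjoint_left.1 this (Finset.mem_insert_self i _) hi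
  · have hmem : f a ∈ U.powersetCard 2 := Finset.mem_powersetCard.2 ⟨Finset.subset_union_left, ha2⟩
    rw [Set.ncard_coe_finset, Finset.card_erase_of_mem hmem, Finset.card_powersetCard]
    have h1 : U.card.choose 2 ≤ Nat.choose 3 2 := Nat.choose_le_choose 2 hU3
    have h2 : Nat.choose 3 2 = 3 := rfl
    omega

theorem ncard_two_le {α : Type*} (a b : α) : ({a, b} : Set α).ncard ≤ 2 :=
  (Set.ncard_insert_le _ _).trans (by rw [Set.ncard_singleton])

theorem double_sp {n : ℕ} (h : SpLike S n) : Double S := by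
  obtain ⟨B, hA, hN, f, hc⟩ := h
  refine Double.of_lines hc fun a ha b hb hab => ⟨{f b, f a + f b}, Set.toFinite _, ncard_two_le _ _,
    fun w hw hwa hall => ?_⟩
  have hperp : ∀ z, B (f a) z = 0 → B (f b) z = 0 → B (f w) z = 0 := fun z h1 h2 => by
    rcases eq_or_ne z 0 with rfl | hz
    · simp
    obtain ⟨e, he, rfl⟩ := Two.exists_pre hc hz
    exact (Two.comm_iff hA hc hw he).1 (hall e he ((Two.comm_iff hA hc ha he).2 h1).symm
      ((Two.comm_iff hA hc hb he).2 h2).symm).symm
  have e := Two.mem_pair hA hN (Two.form_eq_one hA hc ha hb hab) hperp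
  have hw0 := hc.mem w hw
  rcases Two.bit (B (f w) (f b)) with h1 | h1 <;> rcases Two.bit (B (f w) (f a)) with h2 | h2 <;>
    rw [h1, h2] at e <;> simp at e
  · exact absurd e hw0
  · exact ⟨f b, by simp, 1, one_ne_zero, by rw [e, one_smul]⟩
  · exact absurd ((Two.comm_iff hA hc hw ha).2 h2) hwa
  · exact ⟨f a + f b, by simp, 1, one_ne_zero, by rw [e, one_smul]⟩

/-- A nonzero common zero of a few functionals. -/
theorem exists_common_zero {F V : Type} [Field F] [AddCommGroup V] [Module F V] [FiniteDimensional F V] {k : ℕ}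
    (L : Fin k → Module.Dual F V) (hk : k < Module.finrank F V) : ∃ x, x ≠ 0 ∧ ∀ i, L i x = 0 := by
  by_contra h
  push Not at h
  have hi : Function.Injective (LinearMap.pi L) := (injective_iff_map_eq_zero _).2 fun x hx => by
    by_contra hx0
    obtain ⟨i, hi⟩ := h x hx0
    exact hi (congrFun hx i)
  have := LinearMap.finrank_le_finrank_of_injective hi
  rw [Module.finrank_pi, Fintype.card_fin] at this
  omega

theorem double_o {n : ℕ} (h : OLike S n) (h5 : 5 ≤ n) : Double S := by
  obtain ⟨Q, hN, f, hc⟩ := h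
  set B := QuadraticMap.polarBilin Q with hB
  have hA : B.IsAlt := fun v => by
    show QuadraticMap.polar Q v v = 0
    rw [QuadraticMap.polar_self, two_smul]; exact CharTwo.add_self_eq_zero _
  have hc' : Coords S (fun v => Q v = 1) (fun v w => B v w) f := hc
  have hQ : ∀ v w, Q (v + w) = Q v + Q w + B v w := fun v w => QuadraticMap.map_add (f := Q) v w
  have hsm : ∀ (c : ZMod 2) (v : Fin n → ZMod 2), Q (c • v) = c * Q v := fun c v => by
    rw [QuadraticMap.map_smul, smul_eq_mul, show c * c = c by revert c; decide]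
  refine Double.of_lines hc' fun a ha b hb hab => ⟨{f b, f a + f b}, Set.toFinite _, ncard_two_le _ _,
    fun w hw hwa hall => ?_⟩
  set p := f a
  set q := f b
  set u := f w
  have hpq : B p q = 1 := Two.form_eq_one hA hc' ha hb hab
  have hqp : B q p = 1 := (Two.alt_symm hA q p).trans hpq
  let π : (Fin n → ZMod 2) → (Fin n → ZMod 2) := fun z => z + B q z • p + B p z • q
  have hπp : ∀ z, B p (π z) = 0 := fun z => by simp [π, Two.form_self hA, hpq, CharTwo.add_self_eq_zero]
  have hπq : ∀ z, B q (π z) = 0 := fun z => by simp [π, Two.form_self hA, hqp, CharTwo.add_self_eq_zero]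
  have horth : ∀ z, B p z = 0 → B q z = 0 → Q z = 1 → B u z = 0 := fun z h1 h2 hz => by
    obtain ⟨e, he, rfl⟩ := Two.exists_pre hc' hz
    exact (Two.comm_iff hA hc' hw he).1 (hall e he ((Two.comm_iff hA hc' ha he).2 h1).symm
      ((Two.comm_iff hA hc' hb he).2 h2).symm).symm
  have hu : u = B u q • p + B u p • q := by
    set u' := u + B q u • p + B p u • q with hu'
    suffices u' = 0 by
      rw [Two.alt_symm hA u q, Two.alt_symm hA u p]
      rw [hu', add_assoc] at this
      exact (Two.eq_iff_add _ _).2 this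
    by_contra hne
    obtain ⟨y, hy⟩ := Two.exists_one hN hne
    have hpu : B p u' = 0 := hπp u
    have hqu : B q u' = 0 := hπq u
    have hzu : B u' (π y) = 1 := by simp [π, hy, Two.alt_symm hA u' p, Two.alt_symm hA u' q, hpu, hqu]
    have hswap : ∀ z, B p z = 0 → B q z = 0 → B u z = B u' z := fun z h1 h2 => by
      simp [hu', h1, h2]
    set z₁ := π y
    have hp1 : B p z₁ = 0 := hπp y
    have hq1 : B q z₁ = 0 := hπq y
    rcases Two.bit (Q z₁) with hz1 | hz1
    swap
    · exact one_ne_zero (hzu.symm.trans ((hswap _ hp1 hq1).symm.trans (horth _ hp1 hq1 hz1)))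
    -- a vector of value one orthogonal to both pairs
    obtain ⟨x, hx0, hx⟩ := exists_common_zero (k := 4) ![B p, B q, B u', B z₁] (by
      rw [Module.finrank_fin_fun]; omega)
    have hxp : B p x = 0 := hx 0
    have hxq : B q x = 0 := hx 1
    have hxu : B u' x = 0 := hx 2
    have hxz : B z₁ x = 0 := hx 3
    obtain ⟨t, ht⟩ := Two.exists_one hN hx0
    set t₀ := π t with ht₀
    set t' := t₀ + B z₁ t₀ • u' + B u' t₀ • z₁ with ht'
    have htp : B p t' = 0 := by simp [ht', hpu, hp1, hπp, ht₀]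
    have htq : B q t' = 0 := by simp [ht', hqu, hq1, hπq, ht₀]
    have htu : B u' t' = 0 := by simp [ht', Two.form_self hA, hzu, CharTwo.add_self_eq_zero]
    have htx : B x t' = 1 := by
      simp [ht', ht₀, π, ht, Two.alt_symm hA x p, Two.alt_symm hA x q, Two.alt_symm hA x u', Two.alt_symm hA x z₁,
        hxp, hxq, hxu, hxz]
    have htz : B z₁ t' = 0 := by
      simp [ht', Two.form_self hA, Two.alt_symm hA z₁ u', hzu, CharTwo.add_self_eq_zero]
    obtain ⟨r, hrp, hrq, hru, hrz, hr⟩ : ∃ r, B p r = 0 ∧ B q r = 0 ∧ B u' r = 0 ∧ B z₁ r = 0 ∧ Q r = 1 := by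
      rcases Two.bit (Q x) with e1 | e1
      · rcases Two.bit (Q t') with e2 | e2
        · exact ⟨x + t', by simp [hxp, htp], by simp [hxq, htq], by simp [hxu, htu], by simp [hxz, htz],
            by rw [hQ, e1, e2, htx]; rfl⟩
        · exact ⟨t', htp, htq, htu, htz, e2⟩
      · exact ⟨x, hxp, hxq, hxu, hxz, e1⟩
    have h1 : B p (z₁ + r) = 0 := by simp [hp1, hrp]
    have h2 : B q (z₁ + r) = 0 := by simp [hq1, hrq]
    have h3 := horth _ h1 h2 (by rw [hQ, hz1, hr, hrz]; rfl)
    rw [hswap _ h1 h2, map_add, hzu, hru, add_zero] at h3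
    exact one_ne_zero h3
  have hQu : Q u = 1 := hc'.mem w hw
  rcases Two.bit (B u q) with h1 | h1 <;> rcases Two.bit (B u p) with h2 | h2 <;> rw [h1, h2] at hu <;> simp at hu
  · rw [hu, map_zero] at hQu; exact absurd hQu zero_ne_one
  · exact ⟨q, by simp, 1, one_ne_zero, by rw [one_smul]; exact hu⟩
  · exact absurd ((Two.comm_iff hA hc' hw ha).2 h2) hwa
  · exact ⟨p + q, by simp, 1, one_ne_zero, by rw [one_smul]; exact hu⟩

theorem herm_eq {n : ℕ} (v w : Fin n → KQuad) : herm v w = (SolvablePerp.Model.HS n).h v w := by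
  rw [SolvablePerp.Model.h_eq]; simp [herm, sq]

theorem four_cases : ∀ a b : KQuad, a * (b * b) + b * (a * a) = 0 → a = 0 ∨ b = 0 ∨ a = b := by
  simp only [KQuad.forall_iff]; decide +kernel

theorem four_omega : (⟨2⟩ : KQuad) + (⟨2⟩ : KQuad) * ⟨2⟩ = 1 := by decide +kernel

theorem four_fixed : ∀ a : KQuad, a * a = a → a = 0 ∨ a = 1 := by
  simp only [KQuad.forall_iff]; decide +kernel

theorem double_u {n : ℕ} (h : ULike S n) (h4 : 4 ≤ n) : Double S := by
  obtain ⟨f, hc⟩ := h
  set H := SolvablePerp.Model.HS n with hH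
  have hσ : ∀ a : KQuad, H.σ a = a * a := fun a => by
    show Cfsg.Lib.Classical.powConj SolvablePerp.Model.hK a = _
    rw [Cfsg.Lib.Classical.powConj_apply, sq]
  have htwo : ∀ a : KQuad, a + a = 0 := fun a => CharTwo.add_self_eq_zero a
  have hvadd : ∀ x : Fin n → KQuad, x + x = 0 := fun x => funext fun i => htwo _
  have hfix : ∀ x, H.h x x = 0 ∨ H.h x x = 1 := fun x => four_fixed _ (by rw [← hσ, H.self_fixed])
  have hcomm : ∀ x ∈ S, ∀ y ∈ S, (Commute x y ↔ H.h (f x) (f y) = 0) := fun x hx y hy => by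
    rcases eq_or_ne x y with rfl | e
    · exact iff_of_true (Commute.refl x) ((herm_eq _ _).symm.trans (hc.mem x hx).2)
    · rw [← herm_eq]; exact hc.comm x hx y hy e
  refine Double.of_lines hc fun a ha b hb hab => ?_
  set p := f a
  set b₁ := H.h (f b) p with hb₁
  have hb0 : b₁ ≠ 0 := fun e => hab ((hcomm b hb a ha).2 e).symm
  set q := b₁⁻¹ • f b with hqdef
  have hqp : H.h q p = 1 := by rw [hqdef, H.smul_left, ← hb₁, inv_mul_cancel₀ hb0]
  have hpq : H.h p q = 1 := by rw [H.symm, hqp, map_one]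
  have hpp : H.h p p = 0 := (herm_eq _ _).symm.trans (hc.mem a ha).2
  have hqq : H.h q q = 0 := by
    rw [hqdef, H.smul_left, H.smul_right, show H.h (f b) (f b) = 0 from (herm_eq _ _).symm.trans (hc.mem b hb).2,
      mul_zero, mul_zero]
  refine ⟨{q, p + q}, Set.toFinite _, ncard_two_le _ _, fun w hw hwa hall => ?_⟩
  set u := f w
  let π : (Fin n → KQuad) → (Fin n → KQuad) := fun z => z + H.h z q • p + H.h z p • q
  have hπp : ∀ z, H.h (π z) p = 0 := fun z => by
    simp [π, H.add_left, H.smul_left, hpp, hqp, htwo]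
  have hπq : ∀ z, H.h (π z) q = 0 := fun z => by
    simp [π, H.add_left, H.smul_left, hqq, hpq, htwo]
  have horth : ∀ z, H.h z p = 0 → H.h z q = 0 → H.h z z = 0 → H.h z u = 0 := fun z h1 h2 hz => by
    rcases eq_or_ne z 0 with rfl | hz0
    · exact H.zero_left _
    obtain ⟨e, he, k, hk, rfl⟩ := hc.surj z ⟨hz0, (herm_eq _ _).trans hz⟩
    rw [H.smul_left, mul_eq_zero] at h1 h2
    have c2 : H.h (f e) (f b) = 0 := by
      have := h2.resolve_left hk
      rw [hqdef, H.smul_right, mul_eq_zero] at this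
      exact this.resolve_left ((map_ne_zero _).2 (inv_ne_zero hb0))
    rw [H.smul_left, (hcomm e he w hw).1 (hall e he ((hcomm e he a ha).2 (h1.resolve_left hk))
      ((hcomm e he b hb).2 c2)), mul_zero]
  set u' := π u with hu'
  have hu0 : u' = 0 := by
    by_contra hne
    obtain ⟨y, hy⟩ := H.exists_partner hne
    set z := π y with hzdef
    have hzu' : H.h z u' = 1 := by
      have h0p : H.h p u' = 0 := H.eq_zero_symm (hπp u)
      have h0q : H.h q u' = 0 := H.eq_zero_symm (hπq u)
      show H.h (y + H.h y q • p + H.h y p • q) u' = 1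
      rw [H.add_left, H.add_left, H.smul_left, H.smul_left, h0p, h0q, mul_zero, mul_zero, add_zero, add_zero,
        H.symm, hy, map_one]
    have hswap : ∀ x, H.h x p = 0 → H.h x q = 0 → H.h x u' = H.h x u := fun x h1 h2 => by
      simp [hu', π, H.add_right, H.smul_right, h1, h2]
    have key : ∀ x, H.h x p = 0 → H.h x q = 0 → H.h x x = 0 → H.h x u' = 0 := fun x h1 h2 h3 => by
      rw [hswap x h1 h2]; exact horth x h1 h2 h3
    have hup : H.h u' p = 0 := hπp u
    have huq : H.h u' q = 0 := hπq u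
    rcases hfix u' with huu | huu
    · rcases hfix z with hzz | hzz
      · exact one_ne_zero (hzu'.symm.trans (key z (hπp y) (hπq y) hzz))
      · have e := key (z + (⟨2⟩ : KQuad) • u') (by simp [H.add_left, H.smul_left, hzdef, hπp, hup])
          (by simp [H.add_left, H.smul_left, hzdef, hπq, huq]) (by
            simp [H.add_left, H.add_right, H.smul_left, H.smul_right, huu, hzz, hσ, hzu', H.symm u' z]
            have := four_omega
            linear_combination this + htwo (1 : KQuad))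
        rw [H.add_left, H.smul_left, huu, mul_zero, add_zero, hzu'] at e
        exact one_ne_zero e
    · -- an anisotropic one beside it
      suffices ∃ x, H.h x p = 0 ∧ H.h x q = 0 ∧ H.h x u' = 0 ∧ H.h x x = 1 by
        obtain ⟨x, h1, h2, h3, h4'⟩ := this
        have e := key (u' + x) (by simp [H.add_left, hup, h1]) (by simp [H.add_left, huq, h2]) (by
          simp [H.add_left, H.add_right, huu, h4', H.symm u' x, h3, htwo])
        rw [H.add_left, huu, h3, add_zero] at e
        exact one_ne_zero e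
      obtain ⟨x, hx0, hx⟩ := exists_common_zero (k := 3) ![H.lin p, H.lin q, H.lin u'] (by
        rw [Module.finrank_fin_fun]; omega)
      have hxp : H.h x p = 0 := hx 0
      have hxq : H.h x q = 0 := hx 1
      have hxu : H.h x u' = 0 := hx 2
      rcases hfix x with hxx | hxx
      swap
      · exact ⟨x, hxp, hxq, hxu, hxx⟩
      obtain ⟨t, ht⟩ := H.exists_partner hx0
      set t₀ := π t with ht₀
      set t' := t₀ + H.h t₀ u' • u' with ht'
      have htp : H.h t' p = 0 := by simp [ht', ht₀, H.add_left, H.smul_left, hup, hπp]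
      have htq : H.h t' q = 0 := by simp [ht', ht₀, H.add_left, H.smul_left, huq, hπq]
      have htu : H.h t' u' = 0 := by simp [ht', H.add_left, H.smul_left, huu, htwo]
      have htx : H.h t' x = 1 := by
        simp [ht', ht₀, π, H.add_left, H.smul_left, H.symm p x, H.symm q x, H.symm u' x, hxp, hxq, hxu]
        rw [H.symm, ht, map_one]
      rcases hfix t' with htt | htt
      swap
      · exact ⟨t', htp, htq, htu, htt⟩
      refine ⟨t' + (⟨2⟩ : KQuad) • x, by simp [H.add_left, H.smul_left, htp, hxp],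
        by simp [H.add_left, H.smul_left, htq, hxq], by simp [H.add_left, H.smul_left, htu, hxu], ?_⟩
      simp [H.add_left, H.add_right, H.smul_left, H.smul_right, hxx, htt, hσ, htx, H.symm x t']
      linear_combination four_omega
  have e : u = H.h u q • p + H.h u p • q := by
    have h0 : u + (H.h u q • p + H.h u p • q) = 0 := by rw [← add_assoc]; exact hu0
    calc u = u + ((H.h u q • p + H.h u p • q) + (H.h u q • p + H.h u p • q)) := by rw [hvadd, add_zero]
      _ = _ := by rw [← add_assoc, h0, zero_add]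
  have hw' := hc.mem w hw
  have huu : H.h u u = 0 := (herm_eq _ _).symm.trans hw'.2
  have hup0 : H.h u p ≠ 0 := fun h0 => hwa ((hcomm w hw a ha).2 h0)
  generalize H.h u q = s at e
  generalize H.h u p = t at e hup0
  rw [e] at huu
  simp [H.add_left, H.add_right, H.smul_left, H.smul_right, hpp, hqq, hpq, hqp, hσ] at huu
  rcases four_cases s t huu with rfl | rfl | rfl
  · refine ⟨q, by simp, t, fun h0 => hw'.1 ?_, by simpa using e⟩
    show u = 0
    rw [e, h0]; simp
  · exact absurd rfl hup0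
  · refine ⟨p + q, by simp, s, fun h0 => hw'.1 ?_, by rw [smul_add]; exact e⟩
    show u = 0
    rw [e, h0]; simp

theorem double_r {n : ℕ} {δ : ZMod 3} (h : RLike S n δ) (h6 : 6 ≤ n) : Double S := by
  obtain ⟨B, hs, hN, -, f, hc⟩ := h
  set Q := LinearMap.BilinMap.toQuadraticMap B with hQdef
  have hQv : ∀ v, Q v = B v v := fun v => rfl
  have hsym : ∀ x y, B x y = B y x := fun x y => (hs.eq y x).symm
  have hpol : ∀ x y, QuadraticMap.polar (⇑Q) x y = 2 * B x y := fun x y => by
    simp only [QuadraticMap.polar, hQv, map_add, LinearMap.add_apply, hsym y x]; ring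
  have hQ : (QuadraticMap.polarBilin Q).Nondegenerate := by
    have key : ∀ x, (∀ y, B x y = 0) → x = 0 := fun x hx => hN.1 x hx
    refine ⟨fun x hx => key x fun y => ?_, fun x hx => key x fun y => ?_⟩
    · have := hx y
      rw [QuadraticMap.polarBilin_apply_apply, hpol] at this
      exact (mul_eq_zero.1 this).resolve_left (by decide)
    · have := hx y
      rw [QuadraticMap.polarBilin_apply_apply, hpol, hsym] at this
      exact (mul_eq_zero.1 this).resolve_left (by decide)
  have hsq : ∀ s : ZMod 3, s ≠ 0 → s * s = 1 := by decide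
  refine Double.of_lines hc fun a ha b hb hab => ?_
  set v := f a with hvdef
  set s := B v (f b) with hsdef
  have hvv : B v v = 1 := hc.mem a ha
  have hs0 : s ≠ 0 := fun e => hab ((hc.comm a ha b hb fun e => hab (e ▸ Commute.refl a)).2 e)
  have hs1 := hsq s hs0
  set r := v - s • f b with hrdef
  have hbb : B (f b) (f b) = 1 := hc.mem b hb
  have hrv : B r v = 0 := by simp [hrdef, hvv, hsym (f b) v, ← hsdef, hs1]
  have hrr : B r r = 0 := by
    simp [hrdef, hvv, hsym (f b) v, ← hsdef, hs1, hbb]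
  have hvr : B v r = 0 := (hsym v r).trans hrv
  have hr0 : r ≠ 0 := fun e => hab (by
    rw [hrdef, sub_eq_zero] at e
    rw [hc.inj b hb a ha s e])
  obtain ⟨y, hy⟩ : ∃ y, B r y = 1 := by
    by_contra hh
    push Not at hh
    refine hr0 (hN.1 r fun y => ?_)
    by_contra hy
    have := hh ((B r y) • y)
    rw [map_smul, smul_eq_mul, hsq _ hy] at this
    exact this rfl
  -- the singular partner of `r` beside `v`
  set t₀ := y - B y v • v with ht₀
  set t := t₀ + B t₀ t₀ • r with htdef
  have htv : B t v = 0 := by simp [htdef, ht₀, hvv, hrv]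
  have hrt : B r t = 1 := by simp [htdef, ht₀, hy, hrv, hrr]
  have htt : B t t = 0 := by
    have h1 : B r t₀ = 1 := by simp [ht₀, hy, hrv]
    simp [htdef, h1, hsym t₀ r, hrr]
    generalize (B t₀) t₀ = N
    revert N
    decide
  have hvt : B v t = 0 := (hsym v t).trans htv
  have htr : B t r = 1 := (hsym t r).trans hrt
  refine ⟨{s • f b, v + s • f b}, Set.toFinite _, ncard_two_le _ _, fun w hw hwa hall => ?_⟩
  set u := f w with hudef
  have huu : B u u = 1 := hc.mem w hw
  have hα : B u v ≠ 0 := fun e => hwa ((hc.comm w hw a ha fun h => hwa (h ▸ Commute.refl a)).2 e)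
  -- orthogonal to the whole trace
  have horth : ∀ z, B z v = 0 → B z r = 0 → B z z = 1 → B z u = 0 := fun z h1 h2 h3 => by
    obtain ⟨e, he, k, hk, rfl⟩ := hc.surj z h3
    rw [map_smul, LinearMap.smul_apply, smul_eq_mul, mul_eq_zero] at h1 h2
    have h1' := h1.resolve_left hk
    have h2' : B (f e) (f b) = 0 := by
      have := h2.resolve_left hk
      rw [hrdef, map_sub, h1', map_smul, smul_eq_mul, zero_sub, neg_eq_zero, mul_eq_zero] at this
      exact this.resolve_left hs0
    have hea : e ≠ a := fun h => by rw [h, ← hvdef, hvv] at h1'; exact one_ne_zero h1'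
    have heb : e ≠ b := fun h => by rw [h, hbb] at h2'; exact one_ne_zero h2'
    have cea := (hc.comm e he a ha hea).2 h1'
    have hew : e ≠ w := fun h => hwa (h ▸ cea)
    rw [map_smul, LinearMap.smul_apply, (hc.comm e he w hw hew).1
      (hall e he cea ((hc.comm e he b hb heb).2 h2')), smul_zero]
  set α := B u v
  set β := B u t
  set γ := B u r
  set u₂ := u - α • v - β • r - γ • t with hu₂
  have hu2v : B u₂ v = 0 := by simp [hu₂, hvv, hrv, htv, α]
  have hu2r : B u₂ r = 0 := by simp [hu₂, hvr, hrr, htr, γ]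
  have hu2t : B u₂ t = 0 := by simp [hu₂, hvt, hrt, htt, β]
  obtain ⟨p₁, hp₁, p₂, hp₂, hp12, hp1, hp2⟩ : ∃ p₁, p₁ = r + t ∧ ∃ p₂, p₂ = r - t ∧ B p₁ p₂ = 0 ∧
      B p₁ p₁ = -1 ∧ B p₂ p₂ = 1 :=
    ⟨_, rfl, _, rfl, by simp [hrr, hrt, htr, htt], by simp [hrr, hrt, htr, htt]; decide,
      by simp [hrr, hrt, htr, htt]; decide⟩
  have hvp1 : B v p₁ = 0 := by simp [hp₁, hvr, hvt]
  have hvp2 : B v p₂ = 0 := by simp [hp₂, hvr, hvt]
  -- a vector of norm one in the complement of the plane, not orthogonal to the projection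
  have hbeside : ∀ x, B x x ≠ 0 → B x v = 0 → B x r = 0 → B x t = 0 → ∀ c : ZMod 3, c ≠ 0 →
      ∃ z, B z z = c ∧ B z v = 0 ∧ B z r = 0 ∧ B z t = 0 ∧ B z x = 0 := fun x hxx hxv hxr hxt c hc0 => by
    obtain ⟨z, hz, hzS⟩ := Cfsg.Agent.S5357.exists_orth_val Q hQ (k := 4) (by omega) ![v, p₁, p₂, x]
      (fun i => by fin_cases i <;> simp [hQv, hvv, hp1, hp2, hxx] <;> decide)
      (fun i j hij => by
        have e1 : B x p₁ = 0 := by simp [hp₁, hxr, hxt]
        have e2 : B x p₂ = 0 := by simp [hp₂, hxr, hxt]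
        fin_cases i <;> fin_cases j <;> first
          | exact absurd rfl hij
          | simp [hpol, hvp1, hvp2, hp12, hxv, e1, e2, hsym v x, hsym p₁ v, hsym p₂ v, hsym p₂ p₁, hsym p₁ x,
              hsym p₂ x]) hc0
    have h0 : ∀ i, B z (![v, p₁, p₂, x] i) = 0 := fun i => by
      have := hzS i
      rw [QuadraticMap.polarBilin_apply_apply, hpol] at this
      exact (mul_eq_zero.1 this).resolve_left (by decide)
    have e1 : B z p₁ = 0 := h0 1
    have e2 : B z p₂ = 0 := h0 2
    rw [hp₁, map_add] at e1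
    rw [hp₂, map_sub] at e2
    have key : ∀ a b : ZMod 3, a + b = 0 → a - b = 0 → a = 0 ∧ b = 0 := by decide
    exact ⟨z, hz, h0 0, (key _ _ e1 e2).1, (key _ _ e1 e2).2, h0 3⟩
  obtain ⟨z₀, hz₀⟩ : ∃ z, B z v = 0 ∧ B z r = 0 ∧ B z t = 0 ∧ B z z = 1 ∧ (u₂ ≠ 0 → B z u₂ ≠ 0) := by
    by_cases hu0 : u₂ = 0
    · obtain ⟨z, hz, hzS⟩ := Cfsg.Agent.S5357.exists_orth_val Q hQ (k := 3) (by omega) ![v, p₁, p₂]
        (fun i => by fin_cases i <;> simp [hQv, hvv, hp1, hp2] <;> decide)
        (fun i j hij => by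
          fin_cases i <;> fin_cases j <;> first
            | exact absurd rfl hij
            | simp [hpol, hvp1, hvp2, hp12, hsym p₁ v, hsym p₂ v, hsym p₂ p₁]) one_ne_zero
      have h0 : ∀ i, B z (![v, p₁, p₂] i) = 0 := fun i => by
        have := hzS i
        rw [QuadraticMap.polarBilin_apply_apply, hpol] at this
        exact (mul_eq_zero.1 this).resolve_left (by decide)
      have e1 : B z p₁ = 0 := h0 1
      have e2 : B z p₂ = 0 := h0 2
      rw [hp₁, map_add] at e1
      rw [hp₂, map_sub] at e2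
      have key : ∀ a b : ZMod 3, a + b = 0 → a - b = 0 → a = 0 ∧ b = 0 := by decide
      exact ⟨z, h0 0, (key _ _ e1 e2).1, (key _ _ e1 e2).2, hz, fun h => absurd hu0 h⟩
    · rcases (by decide : ∀ x : ZMod 3, x = 0 ∨ x = 1 ∨ x = -1) (B u₂ u₂) with e | e | e
      · obtain ⟨y₁, hy₁⟩ : ∃ y₁, B y₁ u₂ ≠ 0 := by
          by_contra hh
          push Not at hh
          exact hu0 (hN.2 u₂ hh)
        set y₂ := y₁ - B y₁ v • v - B y₁ t • r - B y₁ r • t with hy₂
        have h1 : B y₂ v = 0 := by simp [hy₂, hvv, hrv, htv]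
        have h2 : B y₂ r = 0 := by simp [hy₂, hvr, hrr, htr]
        have h3 : B y₂ t = 0 := by simp [hy₂, hvt, hrt, htt]
        have h4 : B y₂ u₂ = B y₁ u₂ := by simp [hy₂, hsym v u₂, hu2v, hsym r u₂, hu2r, hsym t u₂, hu2t]
        set k := (B y₂ y₂ - 1) * B y₁ u₂
        refine ⟨y₂ + k • u₂, by simp [h1, hu2v], by simp [h2, hu2r], by simp [h3, hu2t], ?_, fun _ => ?_⟩
        · simp [e, h4, hsym u₂ y₂, k]
          have key : ∀ N c : ZMod 3, c ≠ 0 → N + (N - 1) * c * c + (N - 1) * c * c = 1 := by decide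
          linear_combination key (B y₂ y₂) _ hy₁
        · simp [e, h4, hy₁]
      · exact ⟨u₂, hu2v, hu2r, hu2t, e, fun _ => by rw [e]; exact one_ne_zero⟩
      · obtain ⟨z, hz, h1, h2, h3, h4⟩ := hbeside u₂ (by rw [e]; decide) hu2v hu2r hu2t (-1) (by decide)
        refine ⟨u₂ + z, by simp [hu2v, h1], by simp [hu2r, h2], by simp [hu2t, h3], ?_, fun _ => ?_⟩
        · simp [e, hz, hsym u₂ z, h4]; decide
        · simp [e, h4]
  obtain ⟨hzv, hzr, hzt, hzz, hzu⟩ := hz₀
  have hBzu : ∀ k : ZMod 3, B (z₀ + k • r) u = k * γ + B z₀ u₂ := fun k => by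
    simp [hu₂, hzv, hzr, hzt, γ, hsym r u]
    ring
  have hmem : ∀ k : ZMod 3, B (z₀ + k • r) v = 0 ∧ B (z₀ + k • r) r = 0 ∧ B (z₀ + k • r) (z₀ + k • r) = 1 :=
    fun k => ⟨by simp [hzv, hrv], by simp [hzr, hrr], by simp [hzz, hzr, hrr, hsym r z₀]⟩
  have hk : ∀ k : ZMod 3, k * γ + B z₀ u₂ = 0 := fun k => by
    obtain ⟨h1, h2, h3⟩ := hmem k
    rw [← hBzu]; exact horth _ h1 h2 h3
  have hγ : γ = 0 := by linear_combination hk 1 - hk 0
  have hu0 : u₂ = 0 := by
    by_contra hne
    exact hzu hne (by simpa using hk 0)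
  have e : u = α • v + β • r := by
    rw [hu₂, hγ, zero_smul, sub_zero, sub_sub, sub_eq_zero] at hu0
    exact hu0
  rw [hrdef, smul_sub, ← add_sub_assoc, ← add_smul] at e
  rcases (by decide : ∀ a b : ZMod 3, a ≠ 0 → b = 0 ∨ b = -a ∨ b = a) α β hα with h | h | h
  · refine absurd ?_ hwa
    rw [h, zero_smul, sub_zero, add_zero] at e
    have : w = a := (hc.inj a ha w hw α e).symm
    rw [this]
  · exact ⟨s • f b, by simp, α, hα, by rw [e, h]; simp⟩
  · refine ⟨v + s • f b, by simp, -α, neg_ne_zero.2 hα, ?_⟩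
    rw [e, h, smul_add, sub_eq_add_neg, neg_smul (M := Fin n → ZMod 3) α (s • f b),
      show α + α = -α from (by decide : ∀ a : ZMod 3, a + a = -a) α]

end Cfsg.Lib.Fischer.Models
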