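import Cfsg.Agent.Fischer.Models.Targets
import Cfsg.Agent.Fischer.Main
import Cfsg.Agent.ThreeTransposition.PairNormaliser.ReflSeven

/-!
From the kinds of graphs to the groups of Fischer's theorem.
-/

set_option autoImplicit false
set_option linter.unusedSectionVars false

namespace Cfsg.Lib.Fischer.Models

open Cfsg Subgroup Cfsg.Lib.ThreeTr
open Cfsg.Lib.PrimeGraph (KQuad)
open scoped commutatorElement

universe u

variable {G : Type u} [Group G] [Finite G] {D : Set G}

/-- The kinds, with primitive neighbours in the last one. -/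
theorem classify (H : Pieces.{u}) (hR : Rich D) (hZ : center G = ⊥) :
    SymLike D 5 ∨ (∃ n, 1 ≤ n ∧ SpLike D n) ∨ (∃ n, 4 ≤ n ∧ ULike D n) ∨ (Setting D ∧ Big D) := by
  obtain ⟨d, hd, -⟩ := hR.cls.2.1
  rcases perp_cases hR hZ hd with P | h | ⟨n, h⟩ | ⟨n, h⟩
  · exact Or.inr (Or.inr (Or.inr ⟨setting_of_prim hR hZ hd P, H.big (setting_of_prim hR hZ hd P)⟩))
  · exact Or.inl h
  · refine Or.inr (Or.inl ⟨n, Nat.one_le_iff_ne_zero.2 fun h0 => ?_, h⟩)
    subst h0
    obtain ⟨B, -, -, f, hf⟩ := h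
    exact hf.mem d hd (Subsingleton.elim _ _)
  · exact Or.inr (Or.inr (Or.inl ⟨n, h.four_le_of_pair hR.pair, h⟩))

/-- The unitary conclusion. -/
theorem u_iso (h : Invols D) (hgen : closure D = ⊤) (hZ : center G = ⊥) {n : ℕ} (hu : ULike D n) (hn : 4 ≤ n) :
    ∃ e : G ≃* Cfsg.PSU n KQuad 2, e '' D = (QuotientGroup.mk : ↥(Cfsg.SU n KQuad 2) → Cfsg.PSU n KQuad 2) ''
      {g : ↥(Cfsg.SU n KQuad 2) |
        (((g : Matrix.SpecialLinearGroup (Fin n) KQuad) : Matrix (Fin n) (Fin n) KQuad) - 1).rank = 1} := by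
  classical
  obtain ⟨f, hf⟩ := graphIso_su hu hn
  have hD := Cfsg.Agent.S1631.result KQuad KQuad.card_eq n hn
  exact exists_iso_top h (double_u hu hn) hgen hZ (Invols.of_class hD) hD.2.2 hf

/-- The conclusion for reflections. -/
theorem r_iso (h : Invols D) (hgen : closure D = ⊤) (hZ : center G = ⊥) {n : ℕ} {δ : ZMod 3} (hr : RLike D n δ)
    (hn : 6 ≤ n) :
    ∃ Q : QuadraticForm (ZMod 3) (Fin n → ZMod 3), (QuadraticMap.polarBilin Q).Nondegenerate ∧
      ∃ e : G ≃* ↥(reflectionSubgroup (⇑Q) (1 : ZMod 3)) ⧸ center ↥(reflectionSubgroup (⇑Q) (1 : ZMod 3)),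
        e '' D = (QuotientGroup.mk : ↥(reflectionSubgroup (⇑Q) (1 : ZMod 3)) → _) ''
          {g : ↥(reflectionSubgroup (⇑Q) (1 : ZMod 3)) |
            (g : ↥(isometryGroup (ZMod 3) (⇑Q))) ∈ reflectionsOfNorm (⇑Q) (1 : ZMod 3)} := by
  obtain ⟨Q, hQ, -, f, hf⟩ := graphIso_refl hr (by omega)
  have hD := Cfsg.Agent.S5357.result n (by omega) Q hQ 1 one_ne_zero
  exact ⟨Q, hQ, exists_iso_top h (double_r hr hn) hgen hZ (Invols.of_class hD) hD.2.2 hf⟩

/-- A primitive class with a commuting pair. -/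
theorem rich_of_primitive (hD : IsThreeTranspositionGroup D) (hprim : IsPrimitiveUnderConj D) {d b : G} (hd : d ∈ D)
    (hb : b ∈ D) (hne : b ≠ d) (hc : Commute d b) : Rich D := by
  refine ⟨⟨hD.1, ⟨d, hd, Set.ext fun x => ⟨fun hx => ?_, fun hx => ?_⟩⟩, hD.2.2⟩, hprim,
    d, hd, b, hb, hne.symm, hc⟩
  · obtain ⟨g, hg⟩ := hprim.1 d hd x hx
    exact isConj_iff.2 ⟨g, hg⟩
  · obtain ⟨g, hg⟩ := isConj_iff.1 hx
    exact hg ▸ hD.2.1 g d hd

/-- With simple nonabelian derived group the class is rich. -/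
theorem rich_of_simple (hD : IsThreeTranspositionClass D) (hZ : center G = ⊥) (hs : IsSimpleGroup (commutator G))
    (hna : ¬ ∀ a b : ↥(commutator G), a * b = b * a) : Rich D := by
  haveI := hs
  have hns : ¬ Group.IsSolvable ↥(commutator G) := fun h => hna (IsSimpleGroup.comm_iff_isSolvable.2 h)
  refine (rich_of_fischer (fun N hN hsol => ?_) ?_ hD).2.2
  · haveI := hN
    rcases IsSimpleGroup.eq_bot_or_eq_top_of_normal (N.subgroupOf (commutator G)) inferInstance with h | h
    · rw [eq_bot_iff, ← hZ]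
      intro n hn
      rw [mem_center_iff]
      intro g
      rw [subgroupOf_eq_bot] at h
      have e : ⁅g, n⁆ = 1 := mem_bot.1 (h.le_bot (mem_inf.2 ⟨N.mul_mem (hN.conj_mem n hn g) (N.inv_mem hn),
        commutator_mem_commutator (mem_top g) (mem_top n)⟩))
      exact commutatorElement_eq_one_iff_mul_comm.1 e
    · rw [subgroupOf_eq_top] at h
      haveI := hsol
      exact absurd (Group.isSolvable_of_isSolvable_injective (inclusion_injective h)) hns
  · rcases IsSimpleGroup.eq_bot_or_eq_top_of_normal (commutator ↥(commutator G)) inferInstance with h | h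
    · refine absurd (fun a b => ?_) hna
      exact commutatorElement_eq_one_iff_mul_comm.1 (h.le (commutator_mem_commutator (mem_top a) (mem_top b)))
    · have := congrArg (Subgroup.map (commutator G).subtype) h
      rwa [map_subtype_commutator, ← MonoidHom.range_eq_map, range_subtype] at this

/-- An abelian simple derived group gives the symmetric group of degree three. -/
theorem three_of_abelian (hD : IsThreeTranspositionClass D) (hZ : center G = ⊥) (hs : IsSimpleGroup (commutator G))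
    (hab : ∀ a b : ↥(commutator G), a * b = b * a) :
    ∃ e : G ≃* Equiv.Perm (Fin 3), e '' D = {σ : Equiv.Perm (Fin 3) | σ.IsSwap} := by
  classical
  haveI := hs
  obtain ⟨d, hd, -⟩ := hD.2.1
  have h2 : ∀ x ∈ D, x * x = 1 := fun x hx => sq_eq_one hD.1 hx
  have hin : ∀ x ∈ D, d * x ∈ commutator G := fun x hx => by
    obtain ⟨g, rfl⟩ := ThreeTr.exists_conj hD hd hx
    have : d * (g * d * g⁻¹) = ⁅d, g⁆ := by rw [commutatorElement_def, inv_eq hD.1 hd]; simp only [mul_assoc]
    rw [this]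
    exact commutator_mem_commutator (mem_top d) (mem_top g)
  have hin2 : ∀ x ∈ D, ∀ y ∈ D, x * y ∈ commutator G := fun x hx y hy => by
    have e : x * y = (d * x)⁻¹ * (d * y) := by
      rw [mul_inv_rev, inv_eq hD.1 hx, inv_eq hD.1 hd, mul_assoc x d, ← mul_assoc d d, h2 d hd, one_mul]
    rw [e]
    exact mul_mem (inv_mem (hin x hx)) (hin y hy)
  obtain ⟨e, he, hne⟩ : ∃ e ∈ D, e ≠ d := by
    by_contra hno
    push Not at hno
    have hc : closure D ≤ centralizer {d} := (closure_le _).2 fun x hx => by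
      rw [hno x hx]; exact mem_centralizer_singleton_iff.2 rfl
    have hd1 : d ∈ center G := mem_center_iff.2 fun g => mem_centralizer_singleton_iff.1 (hc (hD.2.2 ▸ mem_top g))
    rw [hZ, mem_bot] at hd1
    have h1 := hD.1.1 d hd
    rw [hd1, orderOf_one] at h1
    exact absurd h1 (by norm_num)
  set v : ↥(commutator G) := ⟨d * e, hin e he⟩
  have hv : v ≠ 1 := fun h => hne (by
    have h' : d * e = 1 := congrArg Subtype.val h
    rw [eq_inv_of_mul_eq_one_right h', inv_eq hD.1 hd])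
  haveI hn : (zpowers v).Normal := ⟨fun n hn g => by rwa [hab g n, mul_inv_cancel_right]⟩
  have hz : zpowers v = ⊤ := (IsSimpleGroup.eq_bot_or_eq_top_of_normal _ hn).resolve_left
    (zpowers_ne_bot.2 hv)
  have hcard : Nat.card ↥(commutator G) = 3 := by
    have h1 : orderOf v ∣ 2 ∨ orderOf v ∣ 3 := (hD.1.2 d hd e he).imp
      (fun h => orderOf_dvd_of_pow_eq_one (Subtype.ext h)) (fun h => orderOf_dvd_of_pow_eq_one (Subtype.ext h))
    have h0 : orderOf v ≠ 1 := fun h => hv (orderOf_eq_one_iff.1 h)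
    rw [← card_top (G := ↥(commutator G)), ← hz, Nat.card_zpowers]
    rcases h1 with h | h
    · exfalso
      have ho : orderOf v = 2 := ((Nat.dvd_prime Nat.prime_two).1 h).resolve_left h0
      have hcen : (v : G) ∈ center G := mem_center_iff.2 fun g => by
        have hw : g * (v : G) * g⁻¹ ∈ commutator G := Subgroup.Normal.conj_mem inferInstance _ v.2 g
        have h2' : v ^ 2 = 1 := ho ▸ pow_orderOf_eq_one v
        obtain ⟨k, hk⟩ := mem_zpowers_iff.1 (hz ▸ mem_top (⟨_, hw⟩ : ↥(commutator G)))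
        rcases Int.even_or_odd k with ⟨j, rfl⟩ | ⟨j, rfl⟩
        · rw [← two_mul, zpow_mul, zpow_two, ← pow_two, h2', one_zpow] at hk
          have hv1 : g * (v : G) * g⁻¹ = 1 := (congrArg Subtype.val hk).symm
          rw [mul_inv_eq_one, mul_eq_left] at hv1
          exact absurd (Subtype.ext hv1) hv
        · rw [zpow_add, zpow_mul, zpow_two, ← pow_two, h2', one_zpow, one_mul, zpow_one] at hk
          have hv1 : g * (v : G) * g⁻¹ = v := (congrArg Subtype.val hk).symm
          exact mul_inv_eq_iff_eq_mul.1 hv1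
      rw [hZ, mem_bot] at hcen
      exact hv (Subtype.ext hcen)
    · exact ((Nat.dvd_prime Nat.prime_three).1 h).resolve_left h0
  have hnc : ∀ x ∈ D, ∀ y ∈ D, x ≠ y → ¬ Commute x y := fun x hx y hy hxy c => by
    have h1 : (⟨x * y, hin2 x hx y hy⟩ : ↥(commutator G)) ^ 2 = 1 :=
      Subtype.ext ((commute_iff_sq (h2 x hx) (h2 y hy)).1 c)
    have h2' : orderOf (⟨x * y, hin2 x hx y hy⟩ : ↥(commutator G)) ∣ Nat.gcd 2 3 :=
      Nat.dvd_gcd (orderOf_dvd_of_pow_eq_one h1) (hcard ▸ orderOf_dvd_natCard _)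
    have h3 : x * y = 1 := congrArg Subtype.val (orderOf_eq_one_iff.1 (Nat.dvd_one.1 h2'))
    exact hxy (by rw [eq_inv_of_mul_eq_one_right h3, inv_eq hD.1 hx])
  have hD3 : D.ncard = 3 := by
    refine le_antisymm ?_ ?_
    · rw [← hcard, ← SetLike.coe_sort_coe, Nat.card_coe_set_eq]
      exact Set.ncard_le_ncard_of_injOn (d * ·) hin (mul_right_injective d).injOn (Set.toFinite _)
    · have hde : d * e * d ∈ D := conj_invol_mem hD hd he
      have h1 : d * e * d ≠ d := fun h => hne (by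
        have := congrArg (d * · * d) h
        simpa only [invol_conj_conj (h2 d hd), h2 d hd, one_mul] using this)
      have h1' : d * e * d ≠ e := fun h => hnc d hd e he hne.symm (by
        show d * e = e * d
        calc d * e = d * e * d * d := by rw [mul_assoc, mul_assoc, h2 d hd, mul_one]
          _ = e * d := by rw [h])
      have hs3 : ({d, e, d * e * d} : Set G).ncard = 3 := Set.ncard_eq_three.2 ⟨_, _, _, hne.symm, h1.symm, h1'.symm, rfl⟩
      rw [← hs3]
      exact Set.ncard_le_ncard (by rintro x (rfl | rfl | rfl) <;> assumption) (Set.toFinite _)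
  have hs' : SymLike D 3 := by
    haveI : Fintype ↥D := Fintype.ofFinite _
    obtain ⟨E⟩ : Nonempty (↥D ≃ {s : Finset (Fin 3) // s.card = 2}) := ⟨Fintype.equivOfCardEq (by
      rw [← Nat.card_eq_fintype_card, Nat.card_coe_set_eq, hD3]; rfl)⟩
    refine ⟨fun x => if h : x ∈ D then (E ⟨x, h⟩).1 else ∅, ⟨fun x hx => ?_, fun x hx y hy h => ?_, fun s hs => ?_⟩,
      fun x hx y hy hxy => ?_⟩
    · simp only [dif_pos hx]; exact (E ⟨x, hx⟩).2
    · simp only [dif_pos hx, dif_pos hy] at h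
      exact congrArg Subtype.val (E.injective (Subtype.ext h))
    · obtain ⟨⟨x, hx⟩, hxe⟩ := E.surjective ⟨s, hs⟩
      exact ⟨x, hx, by simp only [dif_pos hx, hxe]⟩
    · simp only [dif_pos hx, dif_pos hy]
      refine iff_of_false (hnc x hx y hy hxy) ?_
      exact (by decide : ∀ s t : Finset (Fin 3), s.card = 2 → t.card = 2 → ¬ Disjoint s t) _ _ (E _).2 (E _).2
  obtain ⟨f, hf⟩ := graphIso_perm hs'
  refine exists_iso_bot (Invols.of_class hD) (fun a ha b _ _ => ?_) hD.2.2 hZ (invols_swaps 3)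
    Equiv.Perm.closure_isSwap (center_perm le_rfl) hf
  have h1 : (D \ {a}).ncard = 2 := by rw [Set.ncard_sdiff_singleton_of_mem ha, hD3]
  rw [← h1]
  exact Set.ncard_le_ncard (fun w hw => ⟨hw.1, fun h => hw.2.1 (by rw [show w = a from h])⟩) (Set.toFinite _)

/-! ### Simple groups -/

theorem no_character [IsSimpleGroup G] (hna : ∃ x y : G, x * y ≠ y * x) {A : Type*} [CommGroup A] (χ : G →* A)
    (x : G) : χ x = 1 := by
  rcases IsSimpleGroup.eq_bot_or_eq_top_of_normal χ.ker inferInstance with h | h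
  · obtain ⟨a, b, hab⟩ := hna
    exact absurd ((MonoidHom.ker_eq_bot_iff χ).1 h (by rw [map_mul, map_mul, mul_comm])) hab
  · exact h.ge (mem_top x)

theorem not_sym [IsSimpleGroup G] (hna : ∃ x y : G, x * y ≠ y * x) {n : ℕ} (hn : 2 ≤ n)
    (e : G ≃* Equiv.Perm (Fin n)) : False := by
  have h := no_character hna (Equiv.Perm.sign.comp e.toMonoidHom)
    (e.symm (Equiv.swap ⟨0, by omega⟩ ⟨1, by omega⟩))
  rw [MonoidHom.comp_apply, MulEquiv.coe_toMonoidHom, e.apply_symm_apply,
    Equiv.Perm.sign_swap (Fin.ne_of_val_ne Nat.zero_ne_one)] at h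
  exact absurd h (by decide)

open Cfsg.Lib.Classical in
theorem not_orth [IsSimpleGroup G] (hna : ∃ x y : G, x * y ≠ y * x) {ι : Type} [Fintype ι] [DecidableEq ι]
    (Q : QuadraticForm (ZMod 2) (ι → ZMod 2)) (hN : (QuadraticMap.polarBilin Q).Nondegenerate)
    (h5 : 5 ≤ Fintype.card ι) (e : G ≃* ↥(isometryGroup (ZMod 2) (⇑Q))) : False := by
  have hi := Refl.index_omega_two Q hN (by omega) (Or.inr (by omega))
  have hle : ∀ x, x ∈ commutator ↥(isometryGroup (ZMod 2) (⇑Q)) := fun x => by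
    have h := no_character hna (Abelianization.of.comp e.toMonoidHom) (e.symm x)
    rw [MonoidHom.comp_apply, MulEquiv.coe_toMonoidHom, e.apply_symm_apply] at h
    exact (QuotientGroup.eq_one_iff x).1 h
  have htop : Cfsg.Omega (ZMod 2) (⇑Q) = ⊤ := eq_top_iff.2 fun x _ => hle x
  rw [htop, index_top] at hi
  exact absurd hi (by norm_num)

open Cfsg.Lib.Classical in
theorem not_refl_even [IsSimpleGroup G] (hna : ∃ x y : G, x * y ≠ y * x) {n : ℕ} (hn : 5 ≤ n) (he : Even n)
    (Q : QuadraticForm (ZMod 3) (Fin n → ZMod 3)) (hQ : (QuadraticMap.polarBilin Q).Nondegenerate)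
    (e : G ≃* ↥(reflectionSubgroup (⇑Q) (1 : ZMod 3)) ⧸ center ↥(reflectionSubgroup (⇑Q) (1 : ZMod 3))) : False := by
  classical
  let δ := (Refl.detHom Q).comp (reflectionSubgroup (⇑Q) (1 : ZMod 3)).subtype
  have hker : ∀ z ∈ center ↥(reflectionSubgroup (⇑Q) (1 : ZMod 3)), z ∈ δ.ker := fun z hz => by
    have hm : (Refl.mat Q z.1).det = 1 := by
      rcases mat_center Q hQ hn one_ne_zero hz with h | h
      · rw [show Refl.mat Q z.1 = 1 from h, Matrix.det_one]
      · rw [show Refl.mat Q z.1 = -1 from h, Matrix.det_neg, Matrix.det_one, mul_one, Fintype.card_fin,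
          he.neg_one_pow]
    exact Units.ext hm
  let χ := (QuotientGroup.lift _ δ hker).comp e.toMonoidHom
  obtain ⟨v, hv⟩ : ∃ v, Q v = 1 := by
    obtain ⟨s, hs, -⟩ := (Cfsg.Agent.S5357.result n hn Q hQ 1 one_ne_zero).2.1
    obtain ⟨v, hv, -⟩ := hs
    exact ⟨v, hv⟩
  have hv0 : Q v ≠ 0 := by rw [hv]; exact one_ne_zero
  let r : ↥(reflectionSubgroup (⇑Q) (1 : ZMod 3)) := ⟨Refl.refl Q v hv0, subset_closure ⟨v, hv, rfl⟩⟩
  have h := congrArg Units.val (no_character hna χ (e.symm r))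
  rw [MonoidHom.comp_apply, MulEquiv.coe_toMonoidHom, e.apply_symm_apply, QuotientGroup.lift_mk] at h
  change (Refl.mat Q (Refl.refl Q v hv0)).det = 1 at h
  rw [show Refl.mat Q (Refl.refl Q v hv0) = Cfsg.reflectionMatrix (⇑Q) v from rfl, Refl.det_eq Q v hv0] at h
  exact absurd h (by decide)

open Cfsg.Lib.Classical in
theorem refl_odd [IsSimpleGroup G] (hna : ∃ x y : G, x * y ≠ y * x) {m : ℕ} (hm : 3 ≤ m)
    (Q : QuadraticForm (ZMod 3) (Fin (2 * m + 1) → ZMod 3)) (hQ : (QuadraticMap.polarBilin Q).Nondegenerate)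
    (e : G ≃* ↥(reflectionSubgroup (⇑Q) (1 : ZMod 3)) ⧸ center ↥(reflectionSubgroup (⇑Q) (1 : ZMod 3))) :
    Nonempty (G ≃* Cfsg.POmega (ZMod 3) (Cfsg.quadFormOdd m (ZMod 3))) := by
  classical
  obtain ⟨g, c, hc, hg⟩ := OrthGlue.odd_equiv (m := m) (Q := Q) (by rw [Module.finrank_fin_fun]) hQ
  obtain ⟨e₁⟩ := Cfsg.Lib.OrthSylowTwo.exists_equiv Q (c • Refl.oddForm m (ZMod 3)) g fun x => by
    rw [hg, ← Refl.oddForm_coe]
    rfl
  have hiso : Cfsg.isometryGroup (ZMod 3) (Cfsg.quadFormOdd m (ZMod 3)) =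
      Cfsg.isometryGroup (ZMod 3) (⇑(c • Refl.oddForm m (ZMod 3))) := by
    rw [← Refl.oddForm_coe]
    ext u
    rw [Refl.mem_iff, Refl.mem_iff]
    exact forall_congr' fun x => (mul_right_inj' hc).symm
  let e₂ := (MulEquiv.subgroupCongr hiso).trans e₁
  set R := reflectionSubgroup (⇑Q) (1 : ZMod 3)
  have hΩR : Cfsg.Omega (ZMod 3) (⇑Q) ≤ R := by
    haveI := Subgroup.normal_of_index_eq_two (index_reflectionSubgroup Q hQ (by omega) (one_ne_zero : (1 : ZMod 3) ≠ 0))
    haveI : Fact (Nat.Prime 2) := ⟨Nat.prime_two⟩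
    haveI : IsCyclic (Cfsg.isometryGroup (ZMod 3) (⇑Q) ⧸ R) := isCyclic_of_prime_card (p := 2) (by
      rw [← Subgroup.index_eq_card]; exact index_reflectionSubgroup Q hQ (by omega) one_ne_zero)
    letI := IsCyclic.commGroup (α := Cfsg.isometryGroup (ZMod 3) (⇑Q) ⧸ R)
    exact Subgroup.Normal.quotient_commutative_iff_commutator_le.1 inferInstance
  let φ : Cfsg.Omega (ZMod 3) (⇑Q) →* ↥R ⧸ center ↥R :=
    (QuotientGroup.mk' (center ↥R)).comp (Subgroup.inclusion hΩR)
  have hodd : Odd (Fintype.card (Fin (2 * m + 1))) := by rw [Fintype.card_fin]; exact ⟨m, rfl⟩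
  have hinj : Function.Injective φ := by
    rw [injective_iff_map_eq_one]
    intro x hx
    refine Subtype.ext (Subtype.ext (Units.ext ?_))
    rcases mat_center Q hQ (by omega) one_ne_zero ((QuotientGroup.eq_one_iff _).1 hx) with h | h
    · exact h
    · exact (not_neg_one_omega Q two_ne_three hodd x.2 h).elim
  have hsur : Function.Surjective φ := fun q => by
    have hG : commutator G = ⊤ := eq_top_iff.2 fun x _ =>
      (QuotientGroup.eq_one_iff x).1 (no_character hna Abelianization.of x)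
    have hq : q ∈ (commutator G).map e.toMonoidHom := by
      rw [hG, map_top_of_surjective _ e.surjective]; exact mem_top q
    rw [_root_.commutator_def, map_commutator, map_top_of_surjective _ e.surjective,
      ← map_top_of_surjective _ (QuotientGroup.mk'_surjective (center ↥R)), ← map_commutator] at hq
    obtain ⟨r, hr, rfl⟩ := hq
    have hr' : (r : Cfsg.isometryGroup (ZMod 3) (⇑Q)) ∈ Cfsg.Omega (ZMod 3) (⇑Q) := by
      have := mem_map_of_mem R.subtype hr
      rw [map_commutator] at this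
      exact commutator_mono le_top le_top this
    exact ⟨⟨r, hr'⟩, rfl⟩
  have hcom : (Cfsg.Omega (ZMod 3) (Cfsg.quadFormOdd m (ZMod 3))).map e₂.toMonoidHom = Cfsg.Omega (ZMod 3) (⇑Q) := by
    show (commutator _).map e₂.toMonoidHom = commutator _
    rw [_root_.commutator_def, Subgroup.map_commutator, Subgroup.map_top_of_surjective _ e₂.surjective,
      _root_.commutator_def]
  let eO : Cfsg.Omega (ZMod 3) (Cfsg.quadFormOdd m (ZMod 3)) ≃* Cfsg.Omega (ZMod 3) (⇑Q) :=
    ((Cfsg.Omega (ZMod 3) (Cfsg.quadFormOdd m (ZMod 3))).equivMapOfInjective _ e₂.injective).trans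
      (MulEquiv.subgroupCongr hcom)
  have hzO : center (Cfsg.Omega (ZMod 3) (Cfsg.quadFormOdd m (ZMod 3))) = ⊥ := by
    rw [← Subgroup.card_eq_one, ← Refl.oddForm_coe]
    refine Refl.center_card_one (Refl.oddForm m (ZMod 3)) (Refl.oddForm_nondegenerate two_ne_three m)
      (by simp only [Fintype.card_sum, Fintype.card_unit, Fintype.card_fin]; omega) fun g hg e =>
      (not_neg_one_omega _ two_ne_three
        ⟨m, by simp only [Fintype.card_sum, Fintype.card_unit, Fintype.card_fin]; omega⟩ hg e).elim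
  exact ⟨(e.trans (MulEquiv.ofBijective φ ⟨hinj, hsur⟩).symm).trans
    (eO.symm.trans ((QuotientGroup.quotientMulEquivOfEq hzO).trans QuotientGroup.quotientBot).symm)⟩

end Cfsg.Lib.Fischer.Models
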