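import Cfsg.Agent.Fischer.Models.Finish
import Cfsg.Agent.ThreeTransposition.M24Count.Parity
import Cfsg.Agent.ThreeTransposition.Y332.Iso
import Cfsg.Agent.FiPres.Order

/-!
The three theorems, from the pieces of the induction and the recognition of the three exceptional types.
-/

set_option autoImplicit false

namespace Cfsg.Lib.Fischer.Models

open Cfsg
open Cfsg.Lib.ThreeTr (Rich)
open Cfsg.Lib.PrimeGraph (KQuad)

universe u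

/-- What is used of the induction and of the exceptional types. -/
structure Inputs : Prop where
  pieces : Pieces.{u}
  typeM22 : ∀ (G : Type u) [Group G] [Finite G] (D : Set G), Setting D → M22Like D → IsOfTypeM22 G D
  typeM23 : ∀ (G : Type u) [Group G] [Finite G] (D : Set G), Setting D → M23Like D → IsOfTypeM23 G D
  typeM24 : ∀ (G : Type u) [Group G] [Finite G] (D : Set G), Setting D → M24Like D → IsOfTypeM24 G D

theorem primitive_classification (I : Inputs.{u}) {G : Type u} [Group G] [Finite G] {D : Set G} (hD : Cfsg.IsThreeTranspositionGroup D) (hprim : Cfsg.IsPrimitiveUnderConj D) (hZ : Subgroup.center G = ⊥) (d : G) (hd : d ∈ D) (hw : ∃ b ∈ D, b ≠ d ∧ Commute d b) (h3 : Cfsg.pCore 3 ↥(Subgroup.closure {y : G | y ∈ D ∧ y ≠ d ∧ Commute d y}) ≤ Subgroup.center ↥(Subgroup.closure {y : G | y ∈ D ∧ y ≠ d ∧ Commute d y})) (h2 : Cfsg.pCore 2 ↥(Subgroup.closure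 {y : G | y ∈ D ∧ y ≠ d ∧ Commute d y}) ≤ Subgroup.center ↥(Subgroup.closure {y : G | y ∈ D ∧ y ≠ d ∧ Commute d y})) : (∃ n : ℕ, 7 ≤ n ∧ ∃ e : G ≃* Equiv.Perm (Fin n), e '' D = {σ : Equiv.Perm (Fin n) | σ.IsSwap}) ∨ ((∃ m : ℕ, 3 ≤ m ∧ ∃ e : G ≃* ↥(Cfsg.isometryGroup (ZMod 2) (Cfsg.quadFormPlus m (ZMod 2))), e '' D = {g : ↥(Cfsg.isometryGroup (ZMod 2) (Cfsg.quadFormPlus m (ZMod 2))) | (((g : GL (Fin m ⊕ Fin m) (ZMod 2)) : Matrix (Fin m ⊕ Fin m) (Fin m ⊕ Fin m) (ZMod 2)) - 1).rank = 1}) ∨ (∃ m : ℕ, 2 ≤ m ∧ ∃ e : G ≃* ↥(Cfsg.isometryGroup (ZMod 2) (Cfsg.quadFormMinus m (ZMod 2) 1 1)), e '' D = {g : ↥(Cfsg.isometryGroup (ZMod 2) (Cfsg.quadFormMinus m (ZMod 2) 1 1)) | (((g : GL ((Fin m ⊕ Fin m) ⊕ Fin 2) (ZMod 2)) : Matrix ((Fin m ⊕ Fin m) ⊕ Fin 2) ((Fin m ⊕ Fin m) ⊕ Fin 2) (ZMod 2)) - 1).rank = 1})) ∨ (∃ n : ℕ, 5 ≤ n ∧ ∃ Q : QuadraticForm (ZMod 3) (Fin n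 → ZMod 3), (QuadraticMap.polarBilin Q).Nondegenerate ∧ ∃ c : ZMod 3, c ≠ 0 ∧ ∃ e : G ≃* ↥(Cfsg.reflectionSubgroup (⇑Q) c) ⧸ Subgroup.center ↥(Cfsg.reflectionSubgroup (⇑Q) c), e '' D = (QuotientGroup.mk : ↥(Cfsg.reflectionSubgroup (⇑Q) c) → _) '' {g : ↥(Cfsg.reflectionSubgroup (⇑Q) c) | (g : ↥(Cfsg.isometryGroup (ZMod 3) (⇑Q))) ∈ Cfsg.reflectionsOfNorm (⇑Q) c}) ∨ (Cfsg.IsOfTypeM22 G D ∨ Cfsg.IsOfTypeM23 G D ∨ Cfsg.IsOfTypeM24 G D) := by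
  open Cfsg.Lib in
  obtain ⟨b, hb, hne, hc⟩ := hw
  have hR := rich_of_primitive hD hprim hd hb hne hc
  have hS := setting_of_prim hR hZ hd (prim_of_cores hR hd h3 h2)
  have hI := Invols.of_class hR.cls
  have hgen := hR.cls.2.2
  rcases I.pieces.big hS with ⟨n, hn, h⟩ | ⟨n, hn, h⟩ | ⟨n, δ, hn, h⟩ | h | h | h
  · exact Or.inl ⟨n, hn, sym_model hI hgen hZ h (by omega)⟩
  · exact Or.inr (Or.inl (o_model hI hgen hZ h hn))
  · obtain ⟨Q, hQ, he⟩ := r_iso hI hgen hZ h hn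
    exact Or.inr (Or.inr (Or.inl ⟨n, by omega, Q, hQ, 1, one_ne_zero, he⟩))
  exacts [Or.inr (Or.inr (Or.inr (Or.inl (I.typeM22 G D hS h)))),
    Or.inr (Or.inr (Or.inr (Or.inr (Or.inl (I.typeM23 G D hS h))))),
    Or.inr (Or.inr (Or.inr (Or.inr (Or.inr (I.typeM24 G D hS h)))))]

theorem fischer_theorem (I : Inputs.{u}) {G : Type u} [Group G] [Finite G] {D : Set G} (hD : Cfsg.IsThreeTranspositionClass D) (hZ : Subgroup.center G = ⊥) (hsimple : IsSimpleGroup (commutator G)) : (∃ n : ℕ, ∃ e : G ≃* Equiv.Perm (Fin n), e '' D = {σ : Equiv.Perm (Fin n) | σ.IsSwap}) ∨ (∃ m : ℕ, ∃ e : G ≃* Matrix.symplecticGroup (Fin m) (ZMod 2), e '' D = {g : Matrix.symplecticGroup (Fin m) (ZMod 2) | ((g : Matrix (Fin m ⊕ Fin m) (Fin m ⊕ Fin m) (ZMod 2)) - 1).rank = 1}) ∨ (∃ (n : ℕ) (F : Type) (_ : Field F) (_ : Fintype F), Fintype.card F = 4 ∧ ∃ e : G ≃* Cfsg.PSU n F 2,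 e '' D = (QuotientGroup.mk : ↥(Cfsg.SU n F 2) → Cfsg.PSU n F 2) '' {g : ↥(Cfsg.SU n F 2) | (((g : Matrix.SpecialLinearGroup (Fin n) F) : Matrix (Fin n) (Fin n) F) - 1).rank = 1}) ∨ ((∃ m : ℕ, ∃ e : G ≃* ↥(Cfsg.isometryGroup (ZMod 2) (Cfsg.quadFormPlus m (ZMod 2))), e '' D = {g : ↥(Cfsg.isometryGroup (ZMod 2) (Cfsg.quadFormPlus m (ZMod 2))) | (((g : GL (Fin m ⊕ Fin m) (ZMod 2)) : Matrix (Fin m ⊕ Fin m) (Fin m ⊕ Fin m) (ZMod 2)) - 1).rank = 1}) ∨ (∃ m : ℕ, ∃ e : G ≃* ↥(Cfsg.isometryGroup (ZMod 2) (Cfsg.quadFormMinus m (ZMod 2) 1 1)), e '' D = {g : ↥(Cfsg.isometryGroup (ZMod 2) (Cfsg.quadFormMinus m (ZMod 2) 1 1)) | (((g : GL ((Fin m ⊕ Fin m) ⊕ Fin 2) (ZMod 2)) : Matrix ((Fin m ⊕ Fin m) ⊕ Fin 2) ((Fin m ⊕ Fin m) ⊕ Fin 2) (ZMod 2)) - 1).rank = 1})) ∨ (∃ n : ℕ, ∃ Q : QuadraticForm (ZMod 3) (Fin n → ZMod 3), (QuadraticMap.polarBilin Q).Nondegenerate ∧ ∃ c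 : ZMod 3, c ≠ 0 ∧ ∃ e : G ≃* ↥(Cfsg.reflectionSubgroup (⇑Q) c) ⧸ Subgroup.center ↥(Cfsg.reflectionSubgroup (⇑Q) c), e '' D = (QuotientGroup.mk : ↥(Cfsg.reflectionSubgroup (⇑Q) c) → _) '' {g : ↥(Cfsg.reflectionSubgroup (⇑Q) c) | (g : ↥(Cfsg.isometryGroup (ZMod 3) (⇑Q))) ∈ Cfsg.reflectionsOfNorm (⇑Q) c}) ∨ (Cfsg.IsOfTypeM22 G D ∨ Cfsg.IsOfTypeM23 G D ∨ Cfsg.IsOfTypeM24 G D) := by
  by_cases hab : ∀ a b : ↥(commutator G), a * b = b * a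
  · exact Or.inl ⟨3, three_of_abelian hD hZ hsimple hab⟩
  have hR := rich_of_simple hD hZ hsimple hab
  have hI := Invols.of_class hR.cls
  have hgen := hR.cls.2.2
  rcases classify I.pieces hR hZ with h | ⟨n, hn, h⟩ | ⟨n, hn, h⟩ | ⟨hS, hB⟩
  · exact Or.inl ⟨5, sym_model hI hgen hZ h le_rfl⟩
  · exact Or.inr (Or.inl (sp_model hI hgen hZ h hn))
  · exact Or.inr (Or.inr (Or.inl ⟨n, KQuad, inferInstance, inferInstance, KQuad.card_eq, u_iso hI hgen hZ h hn⟩))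
  rcases hB with ⟨n, hn, h⟩ | ⟨n, hn, h⟩ | ⟨n, δ, hn, h⟩ | h | h | h
  · exact Or.inl ⟨n, sym_model hI hgen hZ h (by omega)⟩
  · exact Or.inr (Or.inr (Or.inr (Or.inl ((o_model hI hgen hZ h hn).imp
      (fun ⟨m, _, he⟩ => ⟨m, he⟩) fun ⟨m, _, he⟩ => ⟨m, he⟩))))
  · obtain ⟨Q, hQ, he⟩ := r_iso hI hgen hZ h hn
    exact Or.inr (Or.inr (Or.inr (Or.inr (Or.inl ⟨n, Q, hQ, 1, one_ne_zero, he⟩))))
  exacts [Or.inr (Or.inr (Or.inr (Or.inr (Or.inr (Or.inl (I.typeM22 G D hS h)))))),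
    Or.inr (Or.inr (Or.inr (Or.inr (Or.inr (Or.inr (Or.inl (I.typeM23 G D hS h))))))),
    Or.inr (Or.inr (Or.inr (Or.inr (Or.inr (Or.inr (Or.inr (I.typeM24 G D hS h)))))))]

theorem simple_classification (I : Inputs.{u}) {G : Type u} [Group G] [Finite G] [IsSimpleGroup G] (hna : ∃ x y : G, x * y ≠ y * x) {D : Set G} (hD : Cfsg.IsThreeTranspositionClass D) : (∃ n : ℕ, Nonempty (G ≃* Matrix.symplecticGroup (Fin n) (ZMod 2))) ∨ (∃ (F : Type) (_ : Field F) (_ : Fintype F) (n : ℕ), Fintype.card F = 4 ∧ Nonempty (G ≃* Cfsg.PSU n F 2)) ∨ (∃ m : ℕ, Nonempty (G ≃* Cfsg.POmega (ZMod 3) (Cfsg.quadFormOdd m (ZMod 3)))) ∨ Cfsg.IsFi22 G ∨ Cfsg.IsFi23 G := by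
  classical
  have hG : commutator G = ⊤ := eq_top_iff.2 fun x _ =>
    (QuotientGroup.eq_one_iff x).1 (no_character hna Abelianization.of x)
  have hZ : Subgroup.center G = ⊥ := (IsSimpleGroup.eq_bot_or_eq_top_of_normal _ inferInstance).resolve_right
    fun h => by
      obtain ⟨x, y, hxy⟩ := hna
      exact hxy (Subgroup.mem_center_iff.1 (h.ge (Subgroup.mem_top y)) x)
  have hR : Rich D := by
    refine rich_of_simple hD hZ ?_ ?_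
    · rw [hG]
      exact Subgroup.topEquiv.isSimpleGroup
    · intro hab
      obtain ⟨x, y, hxy⟩ := hna
      have := hab ⟨x, hG.ge (Subgroup.mem_top x)⟩ ⟨y, hG.ge (Subgroup.mem_top y)⟩
      exact hxy (congrArg Subtype.val this)
  have hI := Invols.of_class hR.cls
  have hgen := hR.cls.2.2
  have hDG : IsThreeTranspositionGroup D := ⟨hD.1, fun g d hd => Cfsg.Lib.ThreeTr.conj_mem hD g hd, hD.2.2⟩
  rcases classify I.pieces hR hZ with h | ⟨n, hn, h⟩ | ⟨n, hn, h⟩ | ⟨hS, hB⟩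
  · obtain ⟨e, -⟩ := sym_model hI hgen hZ h le_rfl
    exact (not_sym hna (by omega) e).elim
  · obtain ⟨m, e, -⟩ := sp_model hI hgen hZ h hn
    exact Or.inl ⟨m, ⟨e⟩⟩
  · obtain ⟨e, -⟩ := u_iso hI hgen hZ h hn
    exact Or.inr (Or.inl ⟨KQuad, inferInstance, inferInstance, n, KQuad.card_eq, ⟨e⟩⟩)
  rcases hB with ⟨n, hn, h⟩ | ⟨n, hn, h⟩ | ⟨n, δ, hn, h⟩ | h | h | h
  · obtain ⟨e, -⟩ := sym_model hI hgen hZ h (by omega)
    exact (not_sym hna (by omega) e).elim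
  · rcases o_model hI hgen hZ h hn with ⟨m, hm, e, -⟩ | ⟨m, hm, e, -⟩
    · revert e
      rw [show Cfsg.quadFormPlus m (ZMod 2) = ⇑(Cfsg.Lib.Classical.HypQuad.plusForm m (ZMod 2)) from
        (funext (Cfsg.Lib.Classical.HypQuad.plusForm_apply m)).symm]
      exact fun e => (not_orth hna _ (Cfsg.Lib.Classical.HypQuad.plusForm_nondegenerate m) (by simp; omega) e).elim
    · revert e
      rw [← Cfsg.Lib.Classical.Refl.minusForm_coe]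
      exact fun e => (not_orth hna _
        (Cfsg.Lib.Classical.Refl.minusForm_nondegenerate' m (by decide)) (by simp; omega) e).elim
  · obtain ⟨Q, hQ, e, -⟩ := r_iso hI hgen hZ h hn
    rcases Nat.even_or_odd' n with ⟨m, rfl | rfl⟩
    · exact (not_refl_even hna (by omega) (even_two_mul m) Q hQ e).elim
    · exact Or.inr (Or.inr (Or.inl ⟨m, refl_odd hna (by omega) Q hQ e⟩))
  · obtain ⟨e, -⟩ := Cfsg.Lib.ThreeTr.Y332.exists_iso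
      (Cfsg.Lib.ThreeTr.M22.mk' hDG hR.prim (I.typeM22 G D hS h))
    exact Or.inr (Or.inr (Or.inr (Or.inl ⟨inferInstance,
      (Nat.card_congr e.toEquiv).symm.trans FiPres.factG.1⟩)))
  · have hM := Cfsg.Lib.ThreeTr.M23.mk' hDG hR.prim (I.typeM23 G D hS h)
    exact Or.inr (Or.inr (Or.inr (Or.inr ⟨inferInstance, hM.card_group.trans (by norm_num)⟩)))
  · obtain ⟨χ, hχ⟩ := (Cfsg.Lib.ThreeTr.M24.mk' hDG hR.prim (I.typeM24 G D hS h)).exists_sign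
    obtain ⟨d, hd, -⟩ := hD.2.1
    have := hχ d hd
    rw [no_character hna χ d] at this
    exact absurd this (by decide)

end Cfsg.Lib.Fischer.Models
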