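import Cfsg.Agent.Fischer.SymStep
import Cfsg.Agent.Fischer.StepSp.Main
import Cfsg.Agent.Fischer.ExclO
import Cfsg.Agent.Fischer.ExclU
import Cfsg.Agent.Fischer.Refl.Main
import Cfsg.Agent.Fischer.Climb.Steps
import Cfsg.Agent.Fischer.Coincidences.Main
import Cfsg.Agent.Fischer.Models.Rows
import Cfsg.Agent.Fischer.Models.Types

/-!
All inputs of the three theorems are proved.
-/

set_option autoImplicit false

namespace Cfsg.Lib.Fischer.Models

universe u

theorem pieces : Pieces.{u} where
  symFive := SymStep.stepSymFive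
  sym := SymStep.stepSym
  sp := SpUp.stepSp
  exclO := OExcl.exclO
  exclU := Cfsg.Lib.Fischer.exclU
  refl := Refl.stepR
  uSix := Climb.stepUSix Coinc.coincidences Refl.stepR
  mTwentyTwo := Climb.stepMTwentyTwo Refl.stepR
  mTwentyThree := Climb.stepMTwentyThree Refl.stepR
  exclM := Climb.exclMTwentyFour
  coinc := Coinc.coincidences

theorem inputs : Inputs.{u} where
  pieces := pieces
  typeM22 _ _ _ _ hS h := isOfTypeM22 hS h
  typeM23 _ _ _ _ hS h := isOfTypeM23 hS h
  typeM24 _ _ _ _ hS h := isOfTypeM24 hS h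

end Cfsg.Lib.Fischer.Models
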