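import Cfsg.Agent.Fischer.Base

/-!
Two generating sets of involutions with the same commuting graph give the same group modulo the centres, once at most
two members not commuting with the first of a noncommuting pair commute with all common neighbours of the pair.
-/

set_option autoImplicit false
set_option linter.unusedSectionVars false

namespace Cfsg.Lib.Fischer.Models

open Cfsg Subgroup Cfsg.Lib.ThreeTr

universe u v

variable {Γ : Type u} [Group Γ] {Γ' : Type v} [Group Γ'] {T : Set Γ} {T' : Set Γ'} {f : Γ → Γ'}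

/-- Involutions closed under `x y x`. -/
structure Invols (T : Set Γ) : Prop where
  sq : ∀ x ∈ T, x * x = 1
  closed : ∀ x ∈ T, ∀ y ∈ T, x * y * x ∈ T

/-- For a noncommuting pair at most two members, not commuting with the first, commute with all common
neighbours. -/
def Double (T : Set Γ) : Prop :=
  ∀ a ∈ T, ∀ b ∈ T, ¬ Commute a b →
    ({w | w ∈ T ∧ ¬ Commute w a ∧ ∀ z ∈ T, Commute z a → Commute z b → Commute z w}).ncard ≤ 2

theorem Invols.inv_eq (h : Invols T) {x : Γ} (hx : x ∈ T) : x⁻¹ = x := inv_eq_of_mul_eq_one_left (h.sq x hx)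

theorem conj_of_graphIso [Finite Γ] (h : Invols T) (hd : Double T) (h' : Invols T') (hf : GraphIso T T' f) :
    ∀ x ∈ T, ∀ y ∈ T, f (x * y * x) = f x * f y * f x := by
  intro x hx y hy
  by_cases hxy : Commute x y
  · rw [hxy.eq, mul_assoc, h.sq x hx, mul_one, ((hf.comm x hx y hy).2 hxy).eq, mul_assoc, h'.sq _ (hf.mem hx),
      mul_one]
  obtain ⟨w, hw, hwe⟩ := hf.pull (h'.closed _ (hf.mem hx) _ (hf.mem hy))
  have hz := h.closed x hx y hy
  have hzy : x * y * x ≠ y := fun e => hxy (by
    show x * y = y * x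
    calc x * y = x * y * x * x := by rw [mul_assoc, mul_assoc, h.sq x hx, mul_one]
      _ = y * x := by rw [e])
  set W := {w | w ∈ T ∧ ¬ Commute w x ∧ ∀ z ∈ T, Commute z x → Commute z y → Commute z w}
  have hnz : ¬ Commute (x * y * x) x := fun c => hxy (by
    have := ((Commute.refl x).mul_right c.symm).mul_right (Commute.refl x)
    rwa [invol_conj_conj (h.sq x hx)] at this)
  have hsub : ({y, x * y * x} : Set Γ) ⊆ W := by
    rintro t (rfl | rfl)
    · exact ⟨hy, fun c => hxy c.symm, fun _ _ _ c => c⟩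
    · exact ⟨hz, hnz, fun _ _ c c' => (c.mul_right c').mul_right c⟩
  have heq : ({y, x * y * x} : Set Γ) = W := Set.eq_of_subset_of_ncard_le hsub
    ((hd x hx y hy hxy).trans (Set.ncard_pair hzy.symm).ge) (Set.toFinite _)
  have hn' : ¬ Commute (f x) (f y) := fun c => hxy ((hf.comm x hx y hy).1 c)
  have hwx : ¬ Commute w x := fun c => hn' (by
    have c' := ((hf.comm w hw x hx).2 c).symm
    rw [hwe] at c'
    have := ((Commute.refl (f x)).mul_right c').mul_right (Commute.refl (f x))
    rwa [invol_conj_conj (h'.sq _ (hf.mem hx))] at this)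
  have hwW : w ∈ W := ⟨hw, hwx, fun z hzT c c' => (hf.comm z hzT w hw).1 (by
    rw [hwe]
    exact (((hf.comm z hzT x hx).2 c).mul_right ((hf.comm z hzT y hy).2 c')).mul_right ((hf.comm z hzT x hx).2 c))⟩
  rw [← heq] at hwW
  rcases hwW with rfl | rfl
  · refine absurd ?_ hn'
    show f x * f w = f w * f x
    calc f x * f w = f x * f w * f x * f x := by rw [mul_assoc (f x * f w), h'.sq _ (hf.mem hx), mul_one]
      _ = f w * f x := by rw [← hwe]
  · exact hwe

/-- The action on a generating set of involutions. -/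
theorem exists_act (h : Invols T) (hgen : closure T = ⊤) :
    ∃ act : Γ →* Equiv.Perm ↥T, (∀ g x, ((act g x : ↥T) : Γ) = g * x * g⁻¹) ∧ act.ker = center Γ ∧
      act.range = closure (act '' T) := by
  have hconj : ∀ g : Γ, ∀ x ∈ T, g * x * g⁻¹ ∈ T ∧ g⁻¹ * x * g ∈ T := fun g => by
    have hg : g ∈ closure T := hgen ▸ mem_top g
    induction hg using closure_induction with
    | mem u hu =>
      intro x hx
      rw [h.inv_eq hu]
      exact ⟨h.closed u hu x hx, h.closed u hu x hx⟩
    | one => intro x hx; simp [hx]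
    | mul a b _ _ ha hb =>
      intro x hx
      refine ⟨?_, ?_⟩
      · rw [show a * b * x * (a * b)⁻¹ = a * (b * x * b⁻¹) * a⁻¹ by group]; exact (ha _ (hb x hx).1).1
      · rw [show (a * b)⁻¹ * x * (a * b) = b⁻¹ * (a⁻¹ * x * a) * b by group]; exact (hb _ (ha x hx).2).2
    | inv a _ ha => intro x hx; rw [inv_inv]; exact ⟨(ha x hx).2, (ha x hx).1⟩
  let act : Γ →* Equiv.Perm ↥T :=
    { toFun := fun g =>
        { toFun := fun x => ⟨g * x * g⁻¹, (hconj g x x.2).1⟩
          invFun := fun x => ⟨g⁻¹ * x * g, (hconj g x x.2).2⟩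
          left_inv := fun x => Subtype.ext (by group)
          right_inv := fun x => Subtype.ext (by group) }
      map_one' := Equiv.ext fun x => Subtype.ext (by simp)
      map_mul' := fun a b => Equiv.ext fun x => Subtype.ext (by
        show a * b * x * (a * b)⁻¹ = a * (b * x * b⁻¹) * a⁻¹
        group) }
  refine ⟨act, fun g x => rfl, ?_, ?_⟩
  · ext g
    rw [MonoidHom.mem_ker]
    refine ⟨fun hg => ?_, fun hg => Equiv.ext fun x => Subtype.ext ?_⟩
    · have hle : closure T ≤ centralizer ({g} : Set Γ) := (closure_le _).2 fun x hx => by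
        have := congrArg Subtype.val (Equiv.ext_iff.1 hg ⟨x, hx⟩)
        exact mem_centralizer_singleton_iff.2 (mul_inv_eq_iff_eq_mul.1 this).symm
      exact mem_center_iff.2 fun k => mem_centralizer_singleton_iff.1 (hle (hgen ▸ mem_top k))
    · show g * (x : Γ) * g⁻¹ = x
      rw [← mem_center_iff.1 hg, mul_inv_cancel_right]
  · rw [← MonoidHom.map_closure, hgen, ← MonoidHom.range_eq_map]

/-- The groups agree modulo their centres. -/
theorem exists_iso [Finite Γ] (h : Invols T) (hd : Double T) (hgen : closure T = ⊤) (h' : Invols T')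
    (hgen' : closure T' = ⊤) (hf : GraphIso T T' f) :
    ∃ e : Γ ⧸ center Γ ≃* Γ' ⧸ center Γ', (∀ x ∈ T, e (x : Γ) = (f x : Γ')) ∧
      e '' (QuotientGroup.mk '' T) = QuotientGroup.mk '' T' := by
  obtain ⟨act, ha, hker, hran⟩ := exists_act h hgen
  obtain ⟨act', ha', hker', hran'⟩ := exists_act h' hgen'
  have hconj := conj_of_graphIso h hd h' hf
  let E : ↥T ≃ ↥T' := hf.bij.equiv f
  let P : Equiv.Perm ↥T ≃* Equiv.Perm ↥T' := E.permCongrHom
  have key : ∀ x ∈ T, P (act x) = act' (f x) := by
    intro x hx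
    refine Equiv.ext fun y => Subtype.ext ?_
    have e1 : f ((E.symm y : ↥T) : Γ) = (y : Γ') := congrArg Subtype.val (E.apply_symm_apply y)
    show f ((act x (E.symm y) : ↥T) : Γ) = _
    rw [ha, ha', h.inv_eq hx, h'.inv_eq (hf.mem hx), hconj x hx _ (E.symm y).2, e1]
  have hrange : act.range.map P.toMonoidHom = act'.range := by
    rw [hran, hran', MonoidHom.map_closure]
    congr 1
    ext p
    constructor
    · rintro ⟨_, ⟨x, hx, rfl⟩, rfl⟩
      exact ⟨f x, hf.mem hx, (key x hx).symm⟩
    · rintro ⟨y, hy, rfl⟩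
      obtain ⟨x, hx, rfl⟩ := hf.pull hy
      exact ⟨_, ⟨x, hx, rfl⟩, key x hx⟩
  let e : Γ ⧸ center Γ ≃* Γ' ⧸ center Γ' :=
    ((QuotientGroup.quotientMulEquivOfEq hker.symm).trans (QuotientGroup.quotientKerEquivRange act)).trans
      ((P.subgroupMap act.range).trans ((MulEquiv.subgroupCongr hrange).trans
        ((QuotientGroup.quotientKerEquivRange act').symm.trans (QuotientGroup.quotientMulEquivOfEq hker'))))
  have he : ∀ x ∈ T, e (x : Γ) = (f x : Γ') := by
    intro x hx
    have e0 : ∀ y : ↥act'.range, (y : Equiv.Perm ↥T') = act' (f x) →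
        QuotientGroup.quotientMulEquivOfEq hker' ((QuotientGroup.quotientKerEquivRange act').symm y) =
          (f x : Γ') := fun y hy => by
      rw [show y = QuotientGroup.quotientKerEquivRange act' ((f x : Γ') : Γ' ⧸ act'.ker) from Subtype.ext hy,
        MulEquiv.symm_apply_apply]
      rfl
    exact e0 _ (key x hx)
  refine ⟨e, he, ?_⟩
  rw [Set.image_image, Set.image_congr he, ← hf.bij.image_eq, Set.image_image]

/-- The version for a group without centre. -/
theorem exists_iso_top [Finite Γ] (h : Invols T) (hd : Double T) (hgen : closure T = ⊤) (hZ : center Γ = ⊥)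
    (h' : Invols T') (hgen' : closure T' = ⊤) (hf : GraphIso T T' f) :
    ∃ e : Γ ≃* Γ' ⧸ center Γ', e '' T = QuotientGroup.mk '' T' := by
  obtain ⟨e, he, -⟩ := exists_iso h hd hgen h' hgen' hf
  refine ⟨((QuotientGroup.quotientMulEquivOfEq hZ).trans QuotientGroup.quotientBot).symm.trans e, ?_⟩
  rw [← hf.bij.image_eq, Set.image_image]
  refine Set.image_congr fun x hx => ?_
  rw [← he x hx]
  rfl

/-- Both groups without centre. -/
theorem exists_iso_bot [Finite Γ] (h : Invols T) (hd : Double T) (hgen : closure T = ⊤) (hZ : center Γ = ⊥)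
    (h' : Invols T') (hgen' : closure T' = ⊤) (hZ' : center Γ' = ⊥) (hf : GraphIso T T' f) :
    ∃ e : Γ ≃* Γ', e '' T = T' := by
  obtain ⟨e, he⟩ := exists_iso_top h hd hgen hZ h' hgen' hf
  let q := (QuotientGroup.quotientMulEquivOfEq hZ').trans QuotientGroup.quotientBot
  refine ⟨e.trans q, ?_⟩
  rw [show ⇑(e.trans q) = q ∘ e from rfl, Set.image_comp, he, Set.image_image]
  exact Set.image_id' T'

theorem Invols.of_class (hD : IsThreeTranspositionClass T) : Invols T :=
  ⟨fun _ hx => sq_eq_one hD.1 hx, fun _ hx _ hy => conj_invol_mem hD hx hy⟩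

/-- A subset as a generating set of the subgroup it generates. -/
theorem Invols.inSub (h : Invols T) :
    Invols {x : ↥(closure T) | (x : Γ) ∈ T} ∧ closure {x : ↥(closure T) | (x : Γ) ∈ T} = ⊤ :=
  ⟨⟨fun x hx => Subtype.ext (h.sq x hx), fun x hx y hy => h.closed x hx y hy⟩, closure_closure_coe_preimage⟩

theorem Double.inSub [Finite Γ] (h : Double T) : Double {x : ↥(closure T) | (x : Γ) ∈ T} := by
  intro a ha b hb hab
  refine le_trans ?_ (h a ha b hb fun c => hab (Subtype.ext c.eq))
  refine Set.ncard_le_ncard_of_injOn Subtype.val (fun w hw => ?_) Subtype.val_injective.injOn (Set.toFinite _)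
  exact ⟨hw.1, fun c => hw.2.1 (Subtype.ext c.eq), fun z hz c c' => congrArg Subtype.val
    (hw.2.2 ⟨z, subset_closure hz⟩ hz (Subtype.ext c.eq) (Subtype.ext c'.eq)).eq⟩

theorem graphIso_inSub (hf : GraphIso T T' f) :
    GraphIso {x : ↥(closure T) | (x : Γ) ∈ T} T' fun x => f x where
  bij := ⟨fun x hx => hf.mem hx, fun x hx y hy e => Subtype.ext (hf.bij.injOn hx hy e), fun y hy => by
    obtain ⟨x, hx, rfl⟩ := hf.pull hy
    exact ⟨⟨x, subset_closure hx⟩, hx, rfl⟩⟩
  comm x hx y hy := (hf.comm x hx y hy).trans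
    ⟨fun c => Subtype.ext c.eq, fun c => congrArg Subtype.val c.eq⟩

/-- The subgroup generated by a subset, modulo its centre. -/
theorem exists_iso_closure [Finite Γ] (h : Invols T) (hd : Double T) (h' : Invols T') (hgen' : closure T' = ⊤)
    (hf : GraphIso T T' f) :
    ∃ e : ↥(closure T) ⧸ center ↥(closure T) ≃* Γ' ⧸ center Γ',
      e '' (QuotientGroup.mk '' {x : ↥(closure T) | (x : Γ) ∈ T}) = QuotientGroup.mk '' T' := by
  obtain ⟨e, -, he⟩ := exists_iso h.inSub.1 hd.inSub h.inSub.2 h' hgen' (graphIso_inSub hf)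
  exact ⟨e, he⟩

end Cfsg.Lib.Fischer.Models
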