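import Cfsg.Agent.Fischer.Models.Iso
import Cfsg.Agent.Fischer.Branch

/-!
Perp sets as sets of involutions, the quotient of a twin-free one by the centre, and twin-freeness of the perp sets
inside a set of one of the sporadic kinds.
-/

set_option autoImplicit false
set_option linter.unusedSectionVars false

namespace Cfsg.Lib.Fischer.Models

open Cfsg Subgroup Cfsg.Lib.ThreeTr
open Cfsg.Lib.PrimeGraph (KQuad)

universe u v

variable {G : Type u} [Group G] {D S : Set G}

theorem invols_perp (h : Invols D) (d : G) : Invols (perp D d) := by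
  refine ⟨fun x hx => h.sq x hx.1, fun x hx y hy => ?_⟩
  have c : Commute d (x * y * x) := (hx.2.2.mul_right hy.2.2).mul_right hx.2.2
  refine ⟨h.closed x hx.1 y hy.1, fun e => hy.2.1 ?_, c⟩
  calc y = x * (x * y * x) * x := (invol_conj_conj (h.sq x hx.1) y).symm
    _ = x * d * x := by rw [e]
    _ = d := by rw [← hx.2.2.eq, mul_assoc, h.sq x hx.1, mul_one]

theorem invols_common (h : Invols D) (d c : G) : Invols (common D d c) :=
  ⟨fun x hx => h.sq x hx.1.1, fun x hx y hy =>
    ⟨(invols_perp h d).closed x hx.1 y hy.1, (invols_perp h c).closed x hx.2 y hy.2⟩⟩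

theorem Invols.conj_mem (h : Invols S) {g : G} (hg : g ∈ closure S) : ∀ {x : G}, x ∈ S → g * x * g⁻¹ ∈ S := by
  induction hg using closure_induction'' with
  | one => intro x hx; simpa using hx
  | mem u hu => intro x hx; rw [h.inv_eq hu]; exact h.closed u hu x hx
  | inv_mem u hu =>
    intro x hx
    rw [inv_inv, h.inv_eq hu]
    exact h.closed u hu x hx
  | mul a b _ _ ha hb =>
    intro x hx
    rw [show a * b * x * (a * b)⁻¹ = a * (b * x * b⁻¹) * a⁻¹ by group]
    exact ha (hb hx)

variable {G' : Type v} [Group G'] {S' : Set G'} {f : G → G'}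

theorem exists_graphIso_symm (h : GraphIso S S' f) : ∃ f', GraphIso S' S f' ∧ ∀ x ∈ S, f' (f x) = x := by
  have hpre : ∀ y ∈ S', Function.invFunOn f S y ∈ S ∧ f (Function.invFunOn f S y) = y := fun y hy =>
    ⟨Function.invFunOn_mem (h.bij.surjOn hy), Function.invFunOn_eq (h.bij.surjOn hy)⟩
  have hleft : ∀ x ∈ S, Function.invFunOn f S (f x) = x := fun x hx =>
    (h.eq_iff (hpre _ (h.mem hx)).1 hx).1 (hpre _ (h.mem hx)).2
  refine ⟨Function.invFunOn f S, ⟨⟨fun y hy => (hpre y hy).1, fun y hy z hz e => ?_,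
    fun x hx => ⟨f x, h.mem hx, hleft x hx⟩⟩, fun y hy z hz => ?_⟩, hleft⟩
  · rw [← (hpre y hy).2, e, (hpre z hz).2]
  · rw [← h.comm _ (hpre y hy).1 _ (hpre z hz).1, (hpre y hy).2, (hpre z hz).2]

theorem twinFree_of_iso (h : GraphIso S S' f) (hv : TwinFree S') : TwinFree S := fun a ha b hb hab =>
  (h.eq_iff ha hb).1 (hv _ (h.mem ha) _ (h.mem hb) fun e he => by
    obtain ⟨w, hw, rfl⟩ := h.pull he
    rw [h.comm a ha w hw, h.comm b hb w hw]
    exact hab w hw)

/-- A twin-free set of involutions seen in the group it generates modulo the centre. -/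
theorem quot (h : Invols S) (hv : TwinFree S) :
    Invols ((QuotientGroup.mk : ↥(closure S) → ↥(closure S) ⧸ center ↥(closure S)) ''
        {x : ↥(closure S) | (x : G) ∈ S}) ∧
      center (↥(closure S) ⧸ center ↥(closure S)) = ⊥ ∧
      ∃ f, GraphIso ((QuotientGroup.mk : ↥(closure S) → ↥(closure S) ⧸ center ↥(closure S)) ''
        {x : ↥(closure S) | (x : G) ∈ S}) S f := by
  classical
  set K := closure S with hK
  set π := QuotientGroup.mk' (center ↥K) with hπ
  have hinj : ∀ x y : ↥K, (x : G) ∈ S → (y : G) ∈ S → π x = π y → x = y := by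
    intro x y hx hy e
    have hz := mem_center_iff.1 (QuotientGroup.eq.1 e)
    refine Subtype.ext (hv _ hx _ hy fun w hw => ?_)
    have hzw : Commute w ((x : G)⁻¹ * y) := congrArg Subtype.val (hz ⟨w, subset_closure hw⟩)
    refine ⟨fun c => ?_, fun c => ?_⟩
    · have := c.mul_left hzw.symm
      rwa [mul_inv_cancel_left] at this
    · have := c.mul_left hzw.symm.inv_left
      rwa [mul_inv_rev, inv_inv, mul_inv_cancel_left] at this
  have hcomm : ∀ x y : ↥K, (x : G) ∈ S → (y : G) ∈ S → (Commute (π x) (π y) ↔ Commute (x : G) y) := by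
    intro x y hx hy
    refine ⟨fun c => ?_, fun c => (show Commute x y from Subtype.ext c.eq).map π⟩
    have hx2 : x * x = 1 := Subtype.ext (h.sq _ hx)
    have e : π (x * y * x) = π y := by
      rw [map_mul, map_mul, c.eq, mul_assoc, ← map_mul π x x, hx2, map_one, mul_one]
    have e' := congrArg Subtype.val (hinj _ _ (h.closed _ hx _ hy) hy e)
    simp only [Subgroup.coe_mul] at e'
    show (x : G) * y = y * x
    calc (x : G) * y = x * y * x * x := by rw [mul_assoc ((x : G) * y), h.sq _ hx, mul_one]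
      _ = y * x := by rw [e']
  refine ⟨⟨?_, ?_⟩, ?_, ?_⟩
  · rintro _ ⟨x, hx, rfl⟩
    show π x * π x = 1
    rw [← map_mul, show x * x = 1 from Subtype.ext (h.sq _ hx), map_one]
  · rintro _ ⟨x, hx, rfl⟩ _ ⟨y, hy, rfl⟩
    exact ⟨x * y * x, h.closed _ hx _ hy, rfl⟩
  · rw [eq_bot_iff]
    intro q hq
    obtain ⟨k, rfl⟩ := QuotientGroup.mk'_surjective _ q
    rw [mem_bot, QuotientGroup.mk'_apply, QuotientGroup.eq_one_iff]
    have hfix : ∀ x : ↥K, (x : G) ∈ S → k * x * k⁻¹ = x := fun x hx => hinj _ _ (h.conj_mem k.2 hx) hx (by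
      rw [map_mul, map_mul, map_inv, ← mem_center_iff.1 hq (π x), mul_inv_cancel_right])
    have hle : closure {x : ↥K | (x : G) ∈ S} ≤ centralizer ({k} : Set ↥K) := (closure_le _).2 fun x hx =>
      mem_centralizer_singleton_iff.2 (mul_inv_eq_iff_eq_mul.1 (hfix x hx)).symm
    exact mem_center_iff.2 fun g =>
      mem_centralizer_singleton_iff.1 (hle (closure_closure_coe_preimage (k := S) ▸ mem_top g))
  · refine ⟨Function.invFunOn (fun x : G => if hx : x ∈ K then π ⟨x, hx⟩ else 1) S, ?_⟩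
    have hi : GraphIso S ((QuotientGroup.mk : ↥K → ↥K ⧸ center ↥K) '' {x : ↥K | (x : G) ∈ S})
        (fun x : G => if hx : x ∈ K then π ⟨x, hx⟩ else 1) := by
      refine ⟨⟨fun x hx => ?_, fun x hx y hy e => ?_, ?_⟩, fun x hx y hy => ?_⟩
      · exact ⟨⟨x, subset_closure hx⟩, hx, by simp only [dif_pos (show x ∈ K from subset_closure hx)]; rfl⟩
      · simp only [dif_pos (show x ∈ K from subset_closure hx), dif_pos (show y ∈ K from subset_closure hy)] at e
        exact congrArg Subtype.val (hinj ⟨x, subset_closure hx⟩ ⟨y, subset_closure hy⟩ hx hy e)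
      · rintro _ ⟨x, hx, rfl⟩
        exact ⟨x, hx, dif_pos x.2⟩
      · simp only [dif_pos (show x ∈ K from subset_closure hx), dif_pos (show y ∈ K from subset_closure hy)]
        exact hcomm ⟨x, subset_closure hx⟩ ⟨y, subset_closure hy⟩ hx hy
    refine ⟨⟨fun y hy => Function.invFunOn_mem (hi.bij.surjOn hy), fun y hy z hz e => ?_, fun x hx => ?_⟩,
      fun y hy z hz => ?_⟩
    · rw [← Function.invFunOn_eq (hi.bij.surjOn hy), e, Function.invFunOn_eq (hi.bij.surjOn hz)]
    · exact ⟨_, hi.mem hx, (hi.eq_iff (Function.invFunOn_mem (hi.bij.surjOn (hi.mem hx))) hx).1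
        (Function.invFunOn_eq (hi.bij.surjOn (hi.mem hx)))⟩
    · rw [← hi.comm _ (Function.invFunOn_mem (hi.bij.surjOn hy)) _ (Function.invFunOn_mem (hi.bij.surjOn hz)),
        Function.invFunOn_eq (hi.bij.surjOn hy), Function.invFunOn_eq (hi.bij.surjOn hz)]

/-- No member of a unitary set commutes with all the others. -/
theorem u_no_universal {n : ℕ} (h : ULike S n) {b : G} (hb : b ∈ S) : ∃ w ∈ S, ¬ Commute b w := by
  obtain ⟨f, hf⟩ := h
  by_contra hall
  push Not at hall
  set H := SolvablePerp.Model.HS n with hH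
  have hσ : ∀ a : KQuad, H.σ a = a * a := fun a => by
    show Cfsg.Lib.Classical.powConj SolvablePerp.Model.hK a = _
    rw [Cfsg.Lib.Classical.powConj_apply, sq]
  have hh : ∀ v w : Fin n → KQuad, herm v w = H.h v w := fun v w => by
    rw [hH, SolvablePerp.Model.h_eq]; simp [herm, sq]
  have hbb : H.h (f b) (f b) = 0 := (hh _ _).symm.trans (hf.mem b hb).2
  obtain ⟨y, hy⟩ := H.exists_partner (hf.mem b hb).1
  have hyy : H.h y y = 0 ∨ H.h y y = 1 :=
    (show ∀ a : KQuad, a * a = a → a = 0 ∨ a = 1 by simp only [KQuad.forall_iff]; decide +kernel) _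
      (by rw [← hσ, H.self_fixed])
  obtain ⟨v, hv0, hvb⟩ : ∃ v, H.h v v = 0 ∧ H.h (f b) v = 1 := by
    rcases hyy with e | e
    · exact ⟨y, e, hy⟩
    refine ⟨y + (⟨2⟩ : KQuad) • f b, ?_, ?_⟩
    · simp [H.add_left, H.add_right, H.smul_left, H.smul_right, e, hbb, hy, H.symm y (f b), hσ]
      decide +kernel
    · simp [H.add_right, H.smul_right, hy, hbb]
  have hvne : v ≠ 0 := fun e => by
    rw [e, show H.h (f b) 0 = 0 from H.eq_zero_symm (H.zero_left _)] at hvb
    exact zero_ne_one hvb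
  obtain ⟨w, hw, a, ha, rfl⟩ := hf.surj v ⟨hvne, (hh _ _).trans hv0⟩
  rw [H.smul_right] at hvb
  have h0 : H.h (f b) (f w) = 0 := by
    rw [← hh]
    rcases eq_or_ne b w with rfl | hne
    · exact (hf.mem b hb).2
    · exact (hf.comm b hb w hw hne).1 (hall w hw)
  rw [h0, mul_zero] at hvb
  exact zero_ne_one hvb

/-- In a primitive class a perp set of type M(22) has no twins. -/
theorem twinFree_of_m22 [Finite G] {E : Set G} (hR : Rich E) {e : G} (he : e ∈ E) (h : M22Like (perp E e)) :
    TwinFree (perp E e) := by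
  obtain ⟨a₀, ha₀, -, -, -, hu, -⟩ := h
  intro a ha b hb hab
  by_contra hne
  obtain ⟨g, hg, rfl⟩ := hR.perp_transitive he ha ha₀
  have hge : g * e * g⁻¹ = e := by rw [(closure_perp_commute hg).eq, mul_inv_cancel_right]
  have hg' : ∀ {w}, w ∈ perp E e → g * w * g⁻¹ ∈ perp E e := fun {w} hw => by
    have : g * w * g⁻¹ ∈ perp E (g * e * g⁻¹) := by rw [← conj_image_perp hR.cls g e]; exact ⟨w, hw, rfl⟩
    rwa [hge] at this
  have hb0 : g * b * g⁻¹ ∈ perp (perp E e) (g * a * g⁻¹) :=
    ⟨hg' hb, fun e' => hne (mul_left_cancel (mul_right_cancel e')).symm,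
      (conj_commute_iff g a b).2 (((hab b hb).2 (Commute.refl b)))⟩
  obtain ⟨w, hw, hn⟩ := u_no_universal hu hb0
  refine hn ?_
  have hw' : g⁻¹ * w * g ∈ perp E e := by
    have : g⁻¹ * w * g⁻¹⁻¹ ∈ perp E (g⁻¹ * e * g⁻¹⁻¹) := by
      rw [← conj_image_perp hR.cls g⁻¹ e]; exact ⟨w, hw.1, rfl⟩
    rwa [inv_inv, show g⁻¹ * e * g = e by
      rw [mul_assoc, ← (closure_perp_commute hg).eq, inv_mul_cancel_left]] at this
  have hc : Commute a (g⁻¹ * w * g) := by
    rw [← conj_commute_iff g, show g * (g⁻¹ * w * g) * g⁻¹ = w by group]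
    exact hw.2.2
  have := (conj_commute_iff g b (g⁻¹ * w * g)).2 ((hab _ hw').1 hc)
  rwa [show g * (g⁻¹ * w * g) * g⁻¹ = w by group] at this

/-- A primitive set of type M(23) has twin-free perp sets at the members in question. -/
theorem twinFree_perp_of_prim [Finite G] (P : Prim S) {d : G} (hd : d ∈ S) (h : M22Like (perp S d)) :
    TwinFree (perp S d) := by
  obtain ⟨Q, _, _, E, f, hR, -, hf, -⟩ := P.exists_quotient
  obtain ⟨f', hf', hleft⟩ := exists_graphIso_symm hf
  have h' : M22Like (perp E (f d)) := by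
    have hi := hf'.perp (hf.mem hd)
    rw [hleft d hd] at hi
    exact hi.m22Like h
  exact twinFree_of_iso (hf.perp hd) (twinFree_of_m22 hR (hf.mem hd) h')

end Cfsg.Lib.Fischer.Models
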